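import Cfsg.Agent.Lib.Trans3.Fi.M23Base
import Cfsg.Agent.Lib.Trans3.FiConf.Data
import Cfsg.Agent.Lib.Trans3.Fi.TypeTransport

/-!
Local axioms at an involution `d` outside a subgroup `G₀` of index two, and the same at every
conjugate: the members adjacent to `a` are the products of `a` with the transpositions of a group
`G₀ ⊓ C(a)` of type M(23), and an element centralising the product of two adjacent members permutes them.
-/

set_option autoImplicit false
set_option linter.unusedSectionVars false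

namespace CfsgLib.Trans3.Fi24Loc

open CfsgLib.Trans3 CfsgLib.Trans3.Fi CfsgLib.InvChar.Coset

variable {X : Type*} [Group X]

/-- The centraliser of `a` in `G₀`. -/
abbrev Yc (G₀ : Subgroup X) (a : X) : Subgroup X := G₀ ⊓ Subgroup.centralizer ({a} : Set X)

/-- Its elements whose product with `a` is a neighbour of `a`. -/
def Tc (d : X) (G₀ : Subgroup X) (a : X) : Set ↥(Yc G₀ a) :=
  {t | a * (t : X) ∈ nbrs (conjugatesOf d) a}

/-- The axioms. -/
structure Loc24 (d : X) (G₀ : Subgroup X) : Prop where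
  ord : orderOf d = 2
  out : d ∉ G₀
  idx : G₀.index = 2
  grp : Cfsg.IsThreeTranspositionGroup (Tc d G₀ d)
  prim : Cfsg.IsPrimitiveUnderConj (Tc d G₀ d)
  m23 : Cfsg.IsOfTypeM23 ↥(Yc G₀ d) (Tc d G₀ d)
  pair : ∀ a b g : X, a ∈ conjugatesOf d → b ∈ nbrs (conjugatesOf d) a → Commute g (a * b) →
    g * a * g⁻¹ = a ∨ g * a * g⁻¹ = b

theorem conjD {d : X} (g : X) {a : X} (ha : a ∈ conjugatesOf d) : g * a * g⁻¹ ∈ conjugatesOf d :=
  IsConj.trans ha (isConj_iff.2 ⟨g, rfl⟩)

theorem mem_Yc {G₀ : Subgroup X} {a x : X} : x ∈ Yc G₀ a ↔ x ∈ G₀ ∧ Commute x a := by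
  rw [Subgroup.mem_inf, Subgroup.mem_centralizer_singleton_iff]
  rfl

variable [Finite X] {d : X} {G₀ : Subgroup X} (h : Loc24 d G₀)
include h

theorem norm : G₀.Normal := Subgroup.normal_of_index_eq_two h.idx

theorem parity (x y : X) : x * y ∈ G₀ ↔ (x ∈ G₀ ↔ y ∈ G₀) :=
  Subgroup.mul_mem_iff_of_index_two h.idx

theorem conj_mem_iff (g x : X) : g * x * g⁻¹ ∈ G₀ ↔ x ∈ G₀ := by
  haveI := norm h
  exact ((inferInstance : G₀.Normal).mem_comm_iff).trans (by rw [← mul_assoc, inv_mul_cancel, one_mul])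

theorem ordD {a : X} (ha : a ∈ conjugatesOf d) : orderOf a = 2 := by
  obtain ⟨g, rfl⟩ := isConj_iff.1 (show IsConj d a from ha)
  rw [orderOf_conj, h.ord]

theorem sqD {a : X} (ha : a ∈ conjugatesOf d) : a * a = 1 := invol_mul_self (ordD h ha)

theorem invD {a : X} (ha : a ∈ conjugatesOf d) : a⁻¹ = a := invol_inv (ordD h ha)

theorem notMem {a : X} (ha : a ∈ conjugatesOf d) : a ∉ G₀ := by
  obtain ⟨g, rfl⟩ := isConj_iff.1 (show IsConj d a from ha)
  rw [conj_mem_iff h]
  exact h.out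

theorem nbrs_conj {g a x : X} (hx : x ∈ nbrs (conjugatesOf d) a) :
    g * x * g⁻¹ ∈ nbrs (conjugatesOf d) (g * a * g⁻¹) :=
  ⟨conjD g hx.1, fun e => hx.2.1 (mul_left_cancel (mul_right_cancel e)),
    (commute_conj_iff g a x).2 hx.2.2⟩

/-- The axioms at a conjugate. -/
theorem local_at {a : X} (ha : a ∈ conjugatesOf d) :
    Cfsg.IsThreeTranspositionGroup (Tc d G₀ a) ∧ Cfsg.IsPrimitiveUnderConj (Tc d G₀ a) ∧
      Cfsg.IsOfTypeM23 ↥(Yc G₀ a) (Tc d G₀ a) := by
  obtain ⟨g, rfl⟩ := isConj_iff.1 (show IsConj d a from ha)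
  have hmap : (Yc G₀ d).map (MulAut.conj g).toMonoidHom = Yc G₀ (g * d * g⁻¹) := by
    ext y
    rw [Subgroup.mem_map_equiv, MulAut.conj_symm_apply, mem_Yc, mem_Yc,
      show g⁻¹ * y * g = g⁻¹ * y * (g⁻¹)⁻¹ by group, conj_mem_iff h]
    refine and_congr_right fun _ => ?_
    rw [← commute_conj_iff g, show g * (g⁻¹ * y * (g⁻¹)⁻¹) * g⁻¹ = y by group]
  let E : ↥(Yc G₀ d) ≃* ↥(Yc G₀ (g * d * g⁻¹)) :=
    ((MulAut.conj g).subgroupMap _).trans (MulEquiv.subgroupCongr hmap)
  have hE : ∀ u, ((E u : ↥(Yc G₀ (g * d * g⁻¹))) : X) = g * (u : X) * g⁻¹ := fun _ => rfl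
  have himg : E '' Tc d G₀ d = Tc d G₀ (g * d * g⁻¹) := by
    have e : ∀ u : X, g * d * g⁻¹ * (g * u * g⁻¹) = g * (d * u) * g⁻¹ := fun u => by group
    ext y
    constructor
    · rintro ⟨u, hu, rfl⟩
      show g * d * g⁻¹ * (E u : X) ∈ nbrs (conjugatesOf d) (g * d * g⁻¹)
      rw [hE, e]
      exact nbrs_conj h (g := g) hu
    · intro hy
      obtain ⟨u, rfl⟩ := E.surjective y
      refine ⟨u, ?_, rfl⟩
      have h' : g * d * g⁻¹ * (E u : X) ∈ nbrs (conjugatesOf d) (g * d * g⁻¹) := hy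
      rw [hE, e] at h'
      have := nbrs_conj h (g := g⁻¹) h'
      rw [show g⁻¹ * (g * (d * (u : X)) * g⁻¹) * g⁻¹⁻¹ = d * u by group,
        show g⁻¹ * (g * d * g⁻¹) * g⁻¹⁻¹ = d by group] at this
      exact this
  exact ⟨himg ▸ Transport.three_image E h.grp, himg ▸ Transport.prim_image E h.prim,
    m23_congr E himg h.m23⟩

/-- The transposition belonging to a neighbour. -/
theorem bar_ok {a x : X} (ha : a ∈ conjugatesOf d) (hx : x ∈ nbrs (conjugatesOf d) a) :
    ∃ hm : a * x ∈ Yc G₀ a, (⟨a * x, hm⟩ : ↥(Yc G₀ a)) ∈ Tc d G₀ a := by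
  refine ⟨mem_Yc.2 ⟨(parity h a x).2 (iff_of_false (notMem h ha) (notMem h hx.1)),
    ((Commute.refl a).mul_left hx.2.2.symm)⟩, ?_⟩
  show a * (a * x) ∈ nbrs (conjugatesOf d) a
  rwa [← mul_assoc, sqD h ha, one_mul]

/-- A member commuting with `a` and different from it is a neighbour. -/
theorem nbr_of {a x : X} (hx : x ∈ conjugatesOf d) (hne : x ≠ a) (hc : Commute a x) :
    x ∈ nbrs (conjugatesOf d) a := ⟨hx, hne, hc⟩

/-- Two neighbours commute exactly when their transpositions do. -/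
theorem commute_shift {a u v : X} (ha : a ∈ conjugatesOf d) (hu : Commute a u) (hv : Commute a v) :
    Commute (a * u) (a * v) ↔ Commute u v := by
  have key : ∀ {u v : X}, Commute a u → Commute a v → Commute u v → Commute (a * u) (a * v) :=
    fun hu hv e => ((Commute.refl a).mul_right hv).mul_left (hu.symm.mul_right e)
  refine ⟨fun e => ?_, key hu hv⟩
  have := key ((Commute.refl a).mul_right hu) ((Commute.refl a).mul_right hv) e
  rwa [← mul_assoc, ← mul_assoc, sqD h ha, one_mul, one_mul] at this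

end CfsgLib.Trans3.Fi24Loc

namespace CfsgLib.Trans3.Fi24Loc

open CfsgLib.InvChar.Coset

/-- Multiplying the letters by an element of order two commuting with them. -/
theorem twist_wprod {G : Type*} [Group G] {c : G} (s : ℕ → G) :
    ∀ w : List ℕ, (∀ x ∈ w, Commute c (s x)) →
      wprod (fun x => c * s x) w = c ^ w.length * wprod s w
  | [], _ => by simp [wprod]
  | x :: w, hw => by
    have ih := twist_wprod s w fun y hy => hw y (List.mem_cons_of_mem _ hy)
    have hc := ((hw x List.mem_cons_self).symm.pow_right w.length)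
    rw [show wprod (fun x => c * s x) (x :: w) = c * s x * wprod (fun x => c * s x) w by simp [wprod],
      ih, show wprod s (x :: w) = s x * wprod s w by simp [wprod], List.length_cons, pow_succ']
    calc c * s x * (c ^ w.length * wprod s w) = c * (s x * c ^ w.length) * wprod s w := by group
      _ = c * (c ^ w.length * s x) * wprod s w := by rw [hc.eq]
      _ = c * c ^ w.length * (s x * wprod s w) := by group

end CfsgLib.Trans3.Fi24Loc
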