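import Cfsg.Agent.Lib.Trans3.Fi24Loc.Emb
import Cfsg.Agent.Lib.Invol.Basic

/-!
The embedded `Fi₂₄` is the whole group: it contains the centraliser of a further involution `z`, so the
centraliser of each involution of even parity, and hence every member.
-/

set_option autoImplicit false
set_option linter.unusedSectionVars false
set_option maxRecDepth 100000

namespace CfsgLib.Trans3.Fi24Loc

open CfsgLib.InvChar CfsgLib.InvChar.Coset CfsgLib.Trans3 CfsgLib.Trans3.Fi
open CfsgLib.Invol (orderOf_pow_half commute_pow_half_left commute_pow_half_right exists_conj_of_odd)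

local notation "D₂₄" => conjugatesOf SporFi24.trans

/-- The two outer points of a product of two adjacent members are determined by the product. -/
def Uniq {X : Type*} [Group X] (d : X) : Prop :=
  ∀ a b u v : X, a ∈ conjugatesOf d → b ∈ nbrs (conjugatesOf d) a → u ∈ conjugatesOf d →
    v ∈ nbrs (conjugatesOf d) u → a * b = u * v → u = a ∨ u = b

/-- An involution `z` in `G₀` commuting with `d` and a subgroup normalised by its centraliser. -/
structure ZData {X : Type*} [Group X] (d : X) (G₀ : Subgroup X) (z : X) (Q : Subgroup X) : Prop where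
  z_ne : z ≠ 1
  z_sq : z * z = 1
  zG : z ∈ G₀
  zd : Commute z d
  dz : d * z ∉ conjugatesOf d
  zpair : ∀ b ∈ nbrs (conjugatesOf d) d, ¬ IsConj z (d * b)
  QG : Q ≤ G₀
  Qn : ∀ g : X, Commute g z → ∀ q ∈ Q, g * q * g⁻¹ ∈ Q
  Qsq : ∀ q ∈ Q, q * q = 1 ∨ q * q = z
  Qw : ∃ q ∈ Q, q * q = 1 ∧ q ≠ 1 ∧ Commute q d ∧ ¬ IsConj z q

variable {X : Type*} [Group X] [Finite X] {d : X} {G₀ : Subgroup X}
variable (h : Loc24 d G₀) {E : Cfsg.Spor.Fi24 →* X} (hE : Emb d E)
include h hE

/-- A product of transpositions goes into `G₀` exactly when there is an even number of them. -/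
theorem fac_parity : ∀ l : List Cfsg.Spor.Fi24, (∀ u ∈ l, u ∈ D₂₄) → (E l.prod ∈ G₀ ↔ Even l.length)
  | [], _ => by simp
  | u :: l, hu => by
    rw [List.prod_cons, map_mul, parity h, fac_parity l fun v hv => hu v (List.mem_cons_of_mem _ hv),
      List.length_cons, Nat.even_add_one]
    simp [notMem h (emb_mem h hE (hu u List.mem_cons_self))]

/-- An involution of the image as a product of transpositions. -/
theorem invol_fac {k : X} (hk : k ∈ E.range) (h2 : k * k = 1) (h1 : k ≠ 1) :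
    ∃ k₀ m l, E k₀ = k ∧ 1 ≤ m ∧ m ≤ 4 ∧ Fac D₂₄ m k₀ l := by
  haveI := SporFi24.finite
  obtain ⟨k₀, rfl⟩ := hk
  obtain ⟨m, l, a, b, hl⟩ := m24_invol TypeFi24.isGroup SporFi24.isPrimitive TypeFi24.typeM24
    (x := k₀) (fun e => h1 (by rw [e, map_one])) (hE.inj (by rw [map_mul, map_one, h2]))
  exact ⟨k₀, m, l, rfl, a, b, hl⟩

/-- An involution of the image inside `G₀` is a product of two or of four transpositions. -/
theorem even_cases {k : X} (hk : k ∈ E.range) (h2 : k * k = 1) (h1 : k ≠ 1) (hG : k ∈ G₀) :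
    (∃ x ∈ D₂₄, ∃ y ∈ D₂₄, y ≠ x ∧ Commute x y ∧ k = E x * E y) ∨
      ∃ k₀ l, E k₀ = k ∧ Fac D₂₄ 4 k₀ l := by
  obtain ⟨k₀, m, l, rfl, a, b, hl⟩ := invol_fac h hE hk h2 h1
  obtain ⟨hnd, hlen, hmem, hco, hpr⟩ := id hl
  have hev := (fac_parity h hE l hmem).1 (hpr ▸ hG)
  rw [hlen] at hev
  obtain rfl | rfl : m = 2 ∨ m = 4 := by
    obtain ⟨r, rfl⟩ := hev; omega
  · obtain ⟨x, y, rfl⟩ := List.length_eq_two.1 hlen
    exact Or.inl ⟨x, hmem x (by simp), y, hmem y (by simp),
      fun e => by subst e; simp at hnd, hco x (by simp) y (by simp), by rw [← map_mul, ← hpr]; simp⟩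
  · exact Or.inr ⟨k₀, l, rfl, hl⟩

variable {z : X} {Q : Subgroup X} (hu : Uniq d) (hz : ZData d G₀ z Q)

/-- The involution `z` is a product of four. -/
theorem z_quad (hz : ZData d G₀ z Q) : ∃ z₀ l, E z₀ = z ∧ Fac D₂₄ 4 z₀ l := by
  refine (even_cases h hE (cent_le h hE hz.zd) hz.z_sq hz.z_ne hz.zG).resolve_left ?_
  rintro ⟨x, hx, y, hy, hne, hc, e⟩
  obtain ⟨g, rfl⟩ := isConj_iff.1 (show IsConj SporFi24.trans x from hx)
  have hy' : g⁻¹ * y * g ∈ D₂₄ := by simpa using TypeFi24.isGroup.2.1 g⁻¹ y hy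
  refine hz.zpair (E (g⁻¹ * y * g)) ⟨emb_mem h hE hy', ?_, ?_⟩ (isConj_iff.2 ⟨(E g)⁻¹, ?_⟩)
  · intro e'
    rw [← hE.map_trans] at e'
    exact hne (by rw [← hE.inj e']; group)
  · have := (hc.map (MulAut.conj g⁻¹).toMonoidHom).map E
    simp only [MulEquiv.coe_toMonoidHom, MulAut.conj_apply, inv_inv] at this
    rwa [show g⁻¹ * (g * SporFi24.trans * g⁻¹) * g = SporFi24.trans by group, hE.map_trans] at this
  · rw [e, ← hE.map_trans, map_mul, map_mul, map_mul, map_mul, map_inv]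
    group

/-- An involution of the image in `G₀` not conjugate to `z` is a product of two. -/
theorem pair_of (hz : ZData d G₀ z Q) {k : X} (hk : k ∈ E.range) (h2 : k * k = 1) (h1 : k ≠ 1)
    (hG : k ∈ G₀) (hn : ¬ IsConj z k) :
    ∃ x ∈ D₂₄, ∃ y ∈ D₂₄, y ≠ x ∧ Commute x y ∧ k = E x * E y := by
  haveI := SporFi24.finite
  refine (even_cases h hE hk h2 h1 hG).resolve_right ?_
  rintro ⟨k₀, l, rfl, hl⟩
  obtain ⟨z₀, l₀, rfl, hl₀⟩ := z_quad h hE hz
  exact hn (E.map_isConj
    ((m24_tuple TypeFi24.isGroup SporFi24.isPrimitive TypeFi24.typeM24 (by norm_num) le_rfl).isConj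
      hl₀ hl))

include hu hz

/-- The image contains `Q`. -/
theorem Q_le {q : X} (hq : q ∈ Q) : q ∈ E.range := by
  have hd : d ∈ conjugatesOf d := mem_conjugatesOf_self
  have dd := sqD h hd
  have di := invD h hd
  obtain ⟨k, ek⟩ : ∃ k, k = d * (q * d * q⁻¹) := ⟨_, rfl⟩
  have hk : k ∈ Q := by
    have := mul_mem (hz.Qn d hz.zd.symm q hq) (inv_mem hq)
    rwa [ek, show d * (q * d * q⁻¹) = d * q * d⁻¹ * q⁻¹ by rw [di]; group]
  obtain ⟨u, eu⟩ : ∃ u, u = q * d * q⁻¹ := ⟨_, rfl⟩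
  rw [← eu] at ek
  have hu' : u ∈ conjugatesOf d := eu ▸ conjD q hd
  rcases hz.Qsq k hk with e | e
  · have hc : Commute d u := by
      rw [ek] at e
      show d * u = u * d
      rw [eq_inv_of_mul_eq_one_left e, mul_inv_rev, di, invD h hu']
    obtain ⟨y, hy, ey⟩ := emb_nbr h hE mem_conjugatesOf_self hu' (hE.map_trans.symm ▸ hc)
    exact stab_mem h hE mem_conjugatesOf_self hy (by rw [hE.map_trans, ey, eu])
  · exfalso
    refine hz.dz ?_
    have hk' : d * k * d = k⁻¹ := by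
      rw [ek, mul_inv_rev, invD h hu', di, ← mul_assoc, dd, one_mul]
    have := conjD k hd
    rwa [show k * d * k⁻¹ = d * z by
      calc k * d * k⁻¹ = d * (d * k * d) * k⁻¹ := by
            rw [show d * (d * k * d) * k⁻¹ = (d * d) * k * d * k⁻¹ by group, dd, one_mul]
        _ = d * (k * k)⁻¹ := by rw [hk', mul_inv_rev, mul_assoc]
        _ = d * z := by rw [e, inv_eq_of_mul_eq_one_right hz.z_sq]] at this

/-- The image contains the centraliser of `z`. -/
theorem z_le {g : X} (hg : Commute g z) : g ∈ E.range := by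
  obtain ⟨q, hq, q2, q1, qd, qz⟩ := hz.Qw
  obtain ⟨x, hx, y, hy, hne, hc, eq⟩ :=
    pair_of h hE hz (cent_le h hE qd) q2 q1 (hz.QG hq) qz
  have hw : g * q * g⁻¹ ∈ Q := hz.Qn g hg q hq
  obtain ⟨x', hx', y', hy', hne', hc', eq'⟩ := pair_of h hE hz (Q_le h hE hu hz hw)
    (by rw [show g * q * g⁻¹ * (g * q * g⁻¹) = g * (q * q) * g⁻¹ by group, q2]; group)
    (fun e => q1 (conj_eq_one_iff.1 e)) (hz.QG hw) fun e => qz (e.trans (isConj_iff.2 ⟨g⁻¹, by group⟩))
  have hmem : ∀ {a b : Cfsg.Spor.Fi24}, a ∈ D₂₄ → b ∈ D₂₄ → b ≠ a → Commute a b →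
      E b ∈ nbrs (conjugatesOf d) (E a) := fun ha hb hab hcm =>
    ⟨emb_mem h hE hb, fun e => hab (hE.inj e), hcm.map E⟩
  rcases hu (E x') (E y') (g * E x * g⁻¹) (g * E y * g⁻¹) (emb_mem h hE hx')
      (hmem hx' hy' hne' hc') (conjD g (emb_mem h hE hx)) (nbrs_conj h (g := g) (hmem hx hy hne hc))
      (by rw [← eq', eq]; group) with e | e
  · exact stab_mem h hE hx hx' e
  · exact stab_mem h hE hx hy' e

/-- The centraliser of an involution of the image inside `G₀`. -/
theorem even_le {k : X} (hk : k ∈ E.range) (h2 : k * k = 1) (h1 : k ≠ 1) (hG : k ∈ G₀) {g : X}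
    (hg : Commute g k) : g ∈ E.range := by
  haveI := SporFi24.finite
  rcases even_cases h hE hk h2 h1 hG with ⟨x, hx, y, hy, hne, hc, rfl⟩ | ⟨k₀, l, rfl, hl⟩
  · exact pair_le h hE hx hy hne hc hg
  · obtain ⟨z₀, l₀, e₀, hl₀⟩ := z_quad h hE hz
    obtain ⟨u, hu'⟩ := isConj_iff.1
      ((m24_tuple TypeFi24.isGroup SporFi24.isPrimitive TypeFi24.typeM24 (by norm_num) le_rfl).isConj
        hl₀ hl)
    have hc : Commute ((E u)⁻¹ * g * E u) z := by
      have := hg.map (MulAut.conj (E u)⁻¹).toMonoidHom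
      simp only [MulEquiv.coe_toMonoidHom, MulAut.conj_apply, inv_inv] at this
      rwa [← hu', map_mul, map_mul, map_inv, e₀,
        show (E u)⁻¹ * (E u * z * (E u)⁻¹) * E u = z by group] at this
    have := mul_mem (mul_mem (⟨u, rfl⟩ : E u ∈ E.range) (z_le h hE hu hz hc))
      (inv_mem (⟨u, rfl⟩ : E u ∈ E.range))
    rwa [show E u * ((E u)⁻¹ * g * E u) * (E u)⁻¹ = g by group] at this

/-- A member outside and a transposition inside have product of odd order. -/
theorem outside_odd {x : Cfsg.Spor.Fi24} (hx : x ∈ D₂₄) {y : X} (hy : y ∈ conjugatesOf d)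
    (hn : y ∉ E.range) : Odd (orderOf (E x * y)) := by
  have ha := emb_mem h hE hx
  rw [← Nat.not_even_iff_odd]
  intro hev
  obtain ⟨k, ek⟩ : ∃ k, k = (E x * y) ^ (orderOf (E x * y) / 2) := ⟨_, rfl⟩
  have ok : orderOf k = 2 := ek ▸ orderOf_pow_half hev
  have ckx : Commute k (E x) := ek ▸ commute_pow_half_left (ordD h ha) (ordD h hy) hev
  have cky : Commute k y := ek ▸ commute_pow_half_right (ordD h ha) (ordD h hy) hev
  have hkS : k ∈ E.range :=
    stab_mem h hE hx hx (conj_eq_of_commute ckx)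
  exact hn (even_le h hE hu hz hkS (invol_mul_self ok) (invol_ne_one ok)
    (ek ▸ pow_mem ((parity h _ _).2 (iff_of_false (notMem h ha) (notMem h hy))) _) cky.symm)

/-- No member commutes with a product of three and lies outside. -/
theorem triple_mem {a b c : Cfsg.Spor.Fi24} (hl : Fac D₂₄ 3 (a * b * c) [a, b, c]) {y : X}
    (hy : y ∈ conjugatesOf d) (hyk : Commute y (E (a * b * c))) : y ∈ E.range := by
  haveI := SporFi24.finite
  have hG := TypeFi24.isGroup
  by_contra hn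
  -- a fourth member commuting with the three
  obtain ⟨g, hgD, hgl, hgc⟩ : ∃ g ∈ D₂₄, g ∉ [a, b, c] ∧ ∀ u ∈ [a, b, c], Commute g u := by
    obtain ⟨L, hL⟩ := m24_clique hG SporFi24.isPrimitive TypeFi24.typeM24
    obtain ⟨hnd, hlen, hmem, hco, -⟩ := hL
    match L, hlen with
    | [p, q, r, s], _ =>
      obtain ⟨e, he⟩ := m24_tuple hG SporFi24.isPrimitive TypeFi24.typeM24 (k := 3) (by norm_num)
        (by norm_num) [p, q, r] [a, b, c] rfl rfl
        (hnd.sublist (by simp)) hl.1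
        (fun u hu => hmem u (by simp only [List.mem_cons, List.not_mem_nil, or_false] at hu ⊢; tauto))
        hl.2.2.1
        (fun u hu v hv => hco u (by simp only [List.mem_cons, List.not_mem_nil, or_false] at hu ⊢; tauto)
          v (by simp only [List.mem_cons, List.not_mem_nil, or_false] at hv ⊢; tauto))
        hl.2.2.2.1
      refine ⟨e * s * e⁻¹, hG.2.1 e s (hmem s (by simp)), fun hs => ?_, fun u hu => ?_⟩
      · rw [← he, List.mem_map] at hs
        obtain ⟨w, hw, e'⟩ := hs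
        have := mul_left_cancel (mul_right_cancel e')
        subst this
        simp only [List.nodup_cons, List.mem_cons, List.not_mem_nil, or_false, not_or] at hnd hw
        rcases hw with rfl | rfl | rfl
        exacts [hnd.1.2.2 rfl, hnd.2.1.2 rfl, hnd.2.2.1 rfl]
      · rw [← he, List.mem_map] at hu
        obtain ⟨w, hw, rfl⟩ := hu
        exact (commute_conj_iff e s w).2 (hco s (by simp) w
          (by simp only [List.mem_cons, List.not_mem_nil, or_false] at hw ⊢; tauto))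
  have hak : ∀ u, u ∈ D₂₄ → (∀ v ∈ [a, b, c], Commute u v) → ∃ w, Commute w (E (a * b * c)) ∧
      w * E u * w⁻¹ = y := by
    intro u hu' hc
    obtain ⟨w, hw, e⟩ := exists_conj_of_odd (ordD h (emb_mem h hE hu')) (ordD h hy)
      (outside_odd h hE hu hz hu' hy hn)
    obtain ⟨i, rfl⟩ := hw
    have cu : Commute (E u) (E (a * b * c)) :=
      (((hc a (by simp)).mul_right (hc b (by simp))).mul_right (hc c (by simp))).map E
    exact ⟨_, (cu.mul_left hyk).zpow_left i, e⟩
  have haD : a ∈ D₂₄ := hl.2.2.1 a (by simp)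
  obtain ⟨w₁, c₁, e₁⟩ := hak a haD (fun v hv => hl.2.2.2.1 a (by simp) v hv)
  obtain ⟨w₂, c₂, e₂⟩ := hak g hgD hgc
  have e : w₂⁻¹ * w₁ * E a * (w₂⁻¹ * w₁)⁻¹ = E g := by
    calc _ = w₂⁻¹ * (w₁ * E a * w₁⁻¹) * w₂ := by group
      _ = w₂⁻¹ * (w₂ * E g * w₂⁻¹) * w₂ := by rw [e₁, e₂]
      _ = E g := by group
  obtain ⟨x₀, hx₀⟩ := stab_mem h hE haD hgD e
  have hxa : x₀ * a * x₀⁻¹ = g := hE.inj (by rw [map_mul, map_mul, map_inv, hx₀, e])
  have hxk : MulAut.conj x₀ (a * b * c) = a * b * c := by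
    refine hE.inj ?_
    rw [MulAut.conj_apply, map_mul, map_mul E x₀, map_inv, hx₀]
    exact mul_inv_eq_iff_eq_mul.2 (c₂.inv_left.mul_left c₁).eq
  have hl' : Fac D₂₄ 3 (a * b * c) ([a, b, c].map (MulAut.conj x₀)) := by
    obtain ⟨h1, -, h3, h4, h5⟩ := hl
    refine ⟨h1.map (MulAut.conj x₀).injective, rfl, fun u hu => ?_, fun u hu v hv => ?_, ?_⟩
    · obtain ⟨w, hw, rfl⟩ := List.mem_map.1 hu
      exact hG.2.1 x₀ w (h3 w hw)
    · obtain ⟨w, hw, rfl⟩ := List.mem_map.1 hu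
      obtain ⟨w', hw', rfl⟩ := List.mem_map.1 hv
      exact (h4 w hw w' hw').map (MulAut.conj x₀).toMonoidHom
    · rw [← map_list_prod, h5, hxk]
  have hn' := fun k => m24_noRel_le hG SporFi24.isPrimitive TypeFi24.typeM24 (k := k)
  have hmem := (determined hG (m := 3) le_rfl (fun _ => hn' 4 (by norm_num) (by norm_num))
    (fun _ => hn' 6 (by norm_num) (by norm_num)) hl' hl (MulAut.conj x₀ a)).1
    (List.mem_map_of_mem List.mem_cons_self)
  rw [MulAut.conj_apply, hxa] at hmem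
  exact hgl hmem

/-- The image is everything. -/
theorem range_top : E.range = ⊤ ∧ E '' D₂₄ = conjugatesOf d := by
  have key : ∀ y ∈ conjugatesOf d, y ∈ E.range := by
    intro y hy
    by_contra hn
    obtain ⟨q, hq, q2, q1, qd, qz⟩ := hz.Qw
    have hqS := cent_le h hE qd
    have oq : orderOf q = 2 := CfsgLib.Invol.invol_of_mul_self q2 q1
    have hev : Even (orderOf (q * y)) := by
      by_contra ho
      obtain ⟨r, hr⟩ := Nat.not_even_iff_odd.1 ho
      have hG : q * y ∉ G₀ := fun e => notMem h hy (((parity h q y).1 e).1 (hz.QG hq))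
      refine hG ?_
      rw [show q * y = ((q * y) ^ 2) ^ (r + 1) by
        rw [← pow_mul, show 2 * (r + 1) = 2 * r + 1 + 1 by omega, pow_succ, ← hr, pow_orderOf_eq_one,
          one_mul]]
      exact pow_mem (Subgroup.sq_mem_of_index_two h.idx _) _
    obtain ⟨k, ek⟩ : ∃ k, k = (q * y) ^ (orderOf (q * y) / 2) := ⟨_, rfl⟩
    have ok : orderOf k = 2 := ek ▸ orderOf_pow_half hev
    have ckq : Commute k q := ek ▸ commute_pow_half_left oq (ordD h hy) hev
    have cky : Commute k y := ek ▸ commute_pow_half_right oq (ordD h hy) hev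
    have hkS : k ∈ E.range := even_le h hE hu hz hqS q2 q1 (hz.QG hq) ckq
    have k2 := invol_mul_self ok
    have k1 := invol_ne_one ok
    obtain ⟨k₀, m, l, rfl, hm1, hm4, hnd, hlen, hmem, hco, hpr⟩ := invol_fac h hE hkS k2 k1
    by_cases hG : E k₀ ∈ G₀
    · exact hn (even_le h hE hu hz hkS k2 k1 hG cky.symm)
    rw [← hpr, fac_parity h hE l hmem, hlen] at hG
    obtain rfl | rfl : m = 1 ∨ m = 3 := by
      rcases Nat.even_or_odd m with e | ⟨r, e⟩
      · exact absurd e hG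
      · omega
    · obtain ⟨u, rfl⟩ := List.length_eq_one_iff.1 hlen
      rw [List.prod_singleton] at hpr
      obtain ⟨w, -, ew⟩ := emb_nbr h hE (hmem u (by simp)) hy (hpr.symm ▸ cky)
      exact hn ⟨w, ew⟩
    · obtain ⟨a, b, c, rfl⟩ := List.length_eq_three.1 hlen
      have hk : k₀ = a * b * c := by rw [← hpr]; simp [mul_assoc]
      exact hn (triple_mem h hE hu hz ⟨hnd, rfl, hmem, hco, by simp [mul_assoc]⟩ hy (hk ▸ cky.symm))
  have himg : E '' D₂₄ = conjugatesOf d := by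
    refine Set.Subset.antisymm (fun _ ⟨x, hx, e⟩ => e ▸ emb_mem h hE hx) fun y hy => ?_
    obtain ⟨x, rfl⟩ := key y hy
    exact ⟨x, mem_of_range h hE hy, rfl⟩
  refine ⟨eq_top_iff.2 fun g _ => ?_, himg⟩
  have hy : g * d * g⁻¹ ∈ E '' D₂₄ := himg.symm ▸ conjD g mem_conjugatesOf_self
  obtain ⟨y, hy, e⟩ := hy
  exact stab_mem h hE mem_conjugatesOf_self hy (by rw [hE.map_trans, e])

end CfsgLib.Trans3.Fi24Loc
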