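import Cfsg.Agent.Lib.Trans3.Fi24Loc.Axioms
import Cfsg.Agent.Lib.Trans3.FiConf.Iota

/-!
A configuration of shape `Y₅₄₂` around `d` from the local axioms, and the copy of `Fi₂₃` in the
centraliser of `d`.
-/

set_option autoImplicit false
set_option linter.unusedSectionVars false
set_option maxRecDepth 100000

namespace CfsgLib.Trans3.Fi24Loc

open CfsgLib.InvChar.Coset CfsgLib.Trans3 CfsgLib.Trans3.Fi CfsgLib.Trans3.Spider CfsgLib.Trans3.FiConf

variable {X : Type*} [Group X] [Finite X] {d : X} {G₀ : Subgroup X}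

/-- The configuration with the copy of `Fi₂₃`. -/
structure Conf (d : X) (G₀ : Subgroup X) (k j : X) (s : ℕ → X) (ι : Cfsg.Spor.Fi23 →* X) : Prop where
  sq : ∀ x, s x * s x = 1
  sl : ∀ x ∈ nodes, s x ∈ nbrs (conjugatesOf d) d
  jl : j ∈ nbrs (conjugatesOf d) d
  hk : k ∈ conjugatesOf d
  kl : ¬ Commute k d
  k3 : ¬ Commute k (s 3)
  k8 : ∀ x ∈ nodes, x ≠ 3 → Commute k (s x)
  kj : Commute k j
  braid_l : k * d * k = d * k * d
  braid_3 : k * s 3 * k = s 3 * k * s 3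
  gen : ∀ x, ι (PresentedGroup.of x) = tenSeq s j (ix23 x) * d
  inj : Function.Injective ι
  comm : ∀ v, Commute d (ι v)
  inG : ∀ v, ι v ∈ G₀
  cent : ∀ x : X, Commute d x → ∃ v, x = ι v ∨ x = ι v * d
  near : ∀ x : X, x ∈ nbrs (conjugatesOf d) d ↔ ∃ u ∈ trSet, x = ι u * d

theorem comm_strip {G : Type*} [Group G] {c u w : G} (n : ℕ) (hc : c * c = 1) (cu : Commute c u)
    (cw : Commute c w) (e : Commute (c * u) (c ^ n * w)) : Commute u w := by
  have h1 : Commute (c * (c * u)) (c ^ n * w) :=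
    (((Commute.refl c).pow_right n).mul_right cw).mul_left e
  rw [← mul_assoc, hc, one_mul] at h1
  have h2 := (cu.symm.pow_right n).mul_right h1
  rwa [← mul_assoc, ← (Commute.refl c).mul_pow, hc, one_pow, one_mul] at h2

variable (h : Loc24 d G₀)
include h

/-- Two neighbours of `p` that do not commute satisfy the braid relation. -/
theorem braid_of {p a b : X} (hp : p ∈ conjugatesOf d) (ha : a ∈ nbrs (conjugatesOf d) p)
    (hb : b ∈ nbrs (conjugatesOf d) p) (hn : ¬ Commute a b) : a * b * a = b * a * b := by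
  obtain ⟨m, hm⟩ := bar_ok h hp ha
  obtain ⟨m', hm'⟩ := bar_ok h hp hb
  have hn' : ¬ Commute (⟨p * a, m⟩ : ↥(Yc G₀ p)) ⟨p * b, m'⟩ := fun e =>
    hn ((commute_shift h hp ha.2.2 hb.2.2).1 (e.map (Yc G₀ p).subtype))
  have h1 : p * a * (p * b) * (p * a) = p * b * (p * a) * (p * b) :=
    congrArg Subtype.val (Trans3.braid (local_at h hp).1.1 hm hm' hn')
  have flat : ∀ u v : X, Commute p u → Commute p v → p * u * (p * v) * (p * u) = p * (u * v * u) :=
    fun u v cu cv => by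
    calc p * u * (p * v) * (p * u) = p * (u * p) * v * (p * u) := by group
      _ = p * (p * u) * v * (p * u) := by rw [cu.eq]
      _ = (p * p) * u * (v * p) * u := by group
      _ = (p * p) * u * (p * v) * u := by rw [cv.eq]
      _ = (p * p) * (u * p) * v * u := by group
      _ = (p * p) * (p * u) * v * u := by rw [cu.eq]
      _ = (p * p) * p * (u * v * u) := by group
      _ = p * (u * v * u) := by rw [sqD h hp, one_mul]
  rw [flat a b ha.2.2 hb.2.2, flat b a hb.2.2 ha.2.2] at h1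
  exact mul_left_cancel h1

theorem exists_conf : ∃ (k j : X) (s : ℕ → X) (ι : Cfsg.Spor.Fi23 →* X), Conf d G₀ k j s ι := by
  classical
  have hd : d ∈ conjugatesOf d := mem_conjugatesOf_self
  have dd : d * d = 1 := sqD h hd
  obtain ⟨hX, hXP, hX23⟩ := local_at h hd
  obtain ⟨pb, hpb, jb, hjb, hne⟩ := (nice_m23 hX hX23).pair
  obtain ⟨sb, hsb⟩ := exists_ten hX hXP hX23 hpb hjb hne
  have hzA := hsb.zA hX hXP hX23
  have cd : ∀ y : ↥(Yc G₀ d), Commute d (y : X) := fun y => (mem_Yc.1 y.2).2.symm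
  have coeC : ∀ {u v : ↥(Yc G₀ d)}, Commute (u : X) v → Commute u v := fun e => Subtype.ext e.eq
  obtain ⟨s, es⟩ : ∃ s : ℕ → X, ∀ x, s x = d * (sb x : X) := ⟨_, fun _ => rfl⟩
  obtain ⟨P, eP⟩ : ∃ P : X, P = d * (pb : X) := ⟨_, rfl⟩
  obtain ⟨j, ej⟩ : ∃ j : X, j = d * (jb : X) := ⟨_, rfl⟩
  have hsl : ∀ x ∈ nodes, s x ∈ nbrs (conjugatesOf d) d := fun x hx =>
    (es x).symm ▸ (hsb.nine.mem x hx).1
  have np : P ∈ nbrs (conjugatesOf d) d := eP.symm ▸ hpb
  have nj : j ∈ nbrs (conjugatesOf d) d := ej.symm ▸ hjb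
  have hP : P ∈ conjugatesOf d := np.1
  have cl : ∀ u v : ↥(Yc G₀ d), Commute (d * (u : X)) (d * v) ↔ Commute u v := fun u v =>
    (commute_shift h hd (cd u) (cd v)).trans ⟨coeC, fun e => e.map (Yc G₀ d).subtype⟩
  have rel : ∀ x ∈ nodes, ∀ z ∈ nodes, (lab11 x z = 2 → Commute (s x) (s z)) ∧
      (lab11 x z = 3 → ¬ Commute (s x) (s z)) := by
    intro x hx z hz
    rw [es x, es z, cl]
    exact hsb.nine.rel x hx z hz
  have hsP : ∀ x ∈ nodes, s x ∈ nbrs (conjugatesOf d) P := fun x hx => by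
    refine ⟨(hsl x hx).1, fun e => (hsb.nine.mem x hx).2.1 ?_, ?_⟩
    · rw [es x, eP] at e
      exact Subtype.ext (mul_left_cancel e)
    · rw [es x, eP, cl]
      exact (hsb.nine.mem x hx).2.2
  have hsj : ∀ x ∈ nodes8, Commute (s x) j := fun x hx => by
    rw [es x, ej, cl]; exact hsb.hj8 x hx
  have hsj9 : ¬ Commute (s 9) j := by rw [es 9, ej, cl]; exact hsb.hj9
  have hpj : ¬ Commute P j := by rw [eP, ej, cl]; exact hne
  have hz : wprod s zW = d := by
    rw [show s = fun x => d * (sb x : X) from funext es, twist_wprod (fun x => (sb x : X)) zW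
      (fun x _ => cd _), ← map_wprod (Yc G₀ d).subtype sb (fun x => (sb x : X)) zW (fun _ _ => rfl),
      hzA, map_one, mul_one,
      show zW.length = 2 * (zW.length / 2) + 1 by decide, pow_succ, pow_mul, pow_two, dd, one_pow,
      one_mul]
  -- the configuration around `P`
  obtain ⟨hY, hYP, hY23⟩ := local_at h hP
  have ndP : d ∈ nbrs (conjugatesOf d) P := ⟨hd, np.2.1.symm, np.2.2.symm⟩
  obtain ⟨mpl, hpl⟩ := bar_ok h hP ndP
  obtain ⟨Jb, hJb, hne'⟩ := exists_far hY hYP hY23 hpl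
  obtain ⟨tb, htb⟩ := exists_ten hY hYP hY23 hpl hJb hne'
  have PP := sqD h hP
  have cP : ∀ y : ↥(Yc G₀ P), Commute P (y : X) := fun y => (mem_Yc.1 y.2).2.symm
  have clP : ∀ u v : ↥(Yc G₀ P), Commute (P * (u : X)) (P * v) ↔ Commute u v := fun u v =>
    (commute_shift h hP (cP u) (cP v)).trans
      ⟨fun e => Subtype.ext e.eq, fun e => e.map (Yc G₀ P).subtype⟩
  have ed : P * (P * d) = d := by rw [← mul_assoc, PP, one_mul]
  obtain ⟨t, et⟩ : ∃ t : ℕ → X, ∀ x, t x = P * (tb x : X) := ⟨_, fun _ => rfl⟩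
  obtain ⟨J, eJ⟩ : ∃ J : X, J = P * (Jb : X) := ⟨_, rfl⟩
  have nJ : J ∈ nbrs (conjugatesOf d) P := eJ.symm ▸ hJb
  have htP : ∀ x ∈ nodes, t x ∈ nbrs (conjugatesOf d) P := fun x hx =>
    (et x).symm ▸ (htb.nine.mem x hx).1
  have htl : ∀ x ∈ nodes, t x ∈ nbrs (conjugatesOf d) d := fun x hx => by
    refine ⟨(htP x hx).1, fun e => (htb.nine.mem x hx).2.1 (Subtype.ext ?_), ?_⟩
    · show (tb x : X) = P * d
      rw [← e, et x, ← mul_assoc, PP, one_mul]
    · have := (clP ⟨P * d, mpl⟩ (tb x)).2 (htb.nine.mem x hx).2.2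
      rwa [ed, ← et x] at this
  have hJl : ¬ Commute J d := fun e => hne' ((clP ⟨P * d, mpl⟩ Jb).1 (by
    show Commute (P * (P * d)) _
    rw [ed, ← eJ]; exact e.symm))
  have htJ : ∀ x ∈ nodes8, Commute (t x) J := fun x hx => by
    rw [et x, eJ, clP]; exact htb.hj8 x hx
  have htJ9 : ¬ Commute (t 9) J := by rw [et 9, eJ, clP]; exact htb.hj9
  obtain ⟨c, ec⟩ : ∃ c : X, c = d * P := ⟨_, rfl⟩
  have cc : c * c = 1 := by
    rw [ec, ← pow_two, np.2.2.mul_pow, pow_two, pow_two, dd, PP, one_mul]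
  have ctb : ∀ x ∈ nodes, Commute c (tb x : X) := fun x hx => by
    have h1 : Commute d (tb x : X) := by
      have := np.2.2.mul_right (htl x hx).2.2
      rwa [et x, ← mul_assoc, PP, one_mul] at this
    rw [ec]
    exact h1.mul_left (cP _)
  have hTex : ∀ x, ∃ y : ↥(Yc G₀ d), (x ∈ nodes → (y : X) = d * t x) ∧ (x ∉ nodes → y = 1) := by
    intro x
    by_cases hx : x ∈ nodes
    · obtain ⟨m, -⟩ := bar_ok h hd (htl x hx)
      exact ⟨⟨d * t x, m⟩, fun _ => rfl, fun e => absurd hx e⟩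
    · exact ⟨1, fun e => absurd e hx, fun _ => rfl⟩
  choose T hT1 hT2 using hTex
  have hTv : ∀ x ∈ nodes, (T x : X) = c * (tb x : X) := fun x hx => by
    rw [hT1 x hx, et x, ec, mul_assoc]
  have hTnine : Nine (Tc d G₀ d) pb T := by
    refine ⟨fun x => ?_, fun x hx => ⟨?_, ?_, ?_⟩, fun x hx z hz => ?_, fun e => htb.nine.bT ?_⟩
    · by_cases hx : x ∈ nodes
      · exact Subtype.ext (by
          rw [Subgroup.coe_mul, hT1 x hx, Subgroup.coe_one, ← pow_two, (htl x hx).2.2.mul_pow,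
            pow_two, pow_two, dd, sqD h (htl x hx).1, one_mul])
      · rw [hT2 x hx, one_mul]
    · show d * (T x : X) ∈ nbrs (conjugatesOf d) d
      rw [hT1 x hx, ← mul_assoc, dd, one_mul]
      exact htl x hx
    · intro e
      have e' := congrArg Subtype.val e
      rw [hT1 x hx] at e'
      exact (htP x hx).2.1 (by rw [eP, ← e', ← mul_assoc, dd, one_mul])
    · refine coeC ?_
      rw [hT1 x hx, show (pb : X) = d * P by rw [eP, ← mul_assoc, dd, one_mul],
        commute_shift h hd np.2.2 (htl x hx).2.2]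
      exact (htP x hx).2.2
    · have key : Commute (T x) (T z) ↔ Commute (tb x) (tb z) := by
        rw [← clP, ← et x, ← et z, ← commute_shift h hd (htl x hx).2.2 (htl z hz).2.2, ← hT1 x hx,
          ← hT1 z hz]
        exact ⟨fun e => e.map (Yc G₀ d).subtype, coeC⟩
      rw [key]
      exact htb.nine.rel x hx z hz
    · have e' := e.map (Yc G₀ d).subtype
      have hw : ∀ x ∈ Data.theta, x ∈ nodes := by decide
      rw [map_wprod (Yc G₀ d).subtype T (fun x => c * (tb x : X)) Data.theta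
          (fun x hx => hTv x (hw x hx)), Subgroup.coe_subtype, hTv 2 (by decide),
        twist_wprod (fun x => (tb x : X)) Data.theta (fun x hx => ctb x (hw x hx))] at e'
      refine Subtype.ext ?_
      have hW : ((wprod tb Data.theta : ↥(Yc G₀ P)) : X) = wprod (fun x => (tb x : X)) Data.theta :=
        map_wprod (Yc G₀ P).subtype tb (fun x => (tb x : X)) Data.theta fun _ _ => rfl
      rw [Subgroup.coe_mul, Subgroup.coe_mul, hW]
      refine (comm_strip _ cc (ctb 2 (by decide)) ?_ e').eq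
      exact Commute.list_prod_right _ _ fun z hz => by
        obtain ⟨y, hy, rfl⟩ := List.mem_map.1 hz
        exact ctb y (hw y hy)
  obtain ⟨g, hg⟩ := nine_rigid hX hXP hX23 hpb hsb.nine hTnine hzA
  obtain ⟨γ, eγ⟩ : ∃ γ : X, γ = ((g : ↥(Yc G₀ d)) : X) := ⟨_, rfl⟩
  have cγd : Commute γ d := eγ ▸ (cd _).symm
  have cγP : Commute γ P := by
    rw [eP]
    exact cγd.mul_right (eγ ▸ ((commute_Hd g.2).symm.map (Yc G₀ d).subtype))
  have hgP : γ * P * γ⁻¹ = P := conj_eq_of_commute cγP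
  have hgd : γ * d * γ⁻¹ = d := conj_eq_of_commute cγd
  obtain ⟨k, ek⟩ : ∃ k, k = γ⁻¹ * J * γ := ⟨_, rfl⟩
  have hk' : γ * k * γ⁻¹ = J := by rw [ek]; group
  have hkD : k ∈ conjugatesOf d := by
    have := conjD γ⁻¹ nJ.1
    rwa [inv_inv, ← ek] at this
  have tr : ∀ {u v : X}, γ * u * γ⁻¹ = v → (Commute k u ↔ Commute J v) := fun {u v} e => by
    conv_rhs => rw [← hk', ← e]
    exact (commute_conj_iff γ k u).symm
  have hkl : ¬ Commute k d := fun e => hJl ((tr hgd).1 e)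
  have hkP : Commute k P := (tr hgP).2 nJ.2.2.symm
  have hconv : ∀ {x y : ℕ}, x ∈ nodes → T x = g * sb y * (g : ↥(Yc G₀ d))⁻¹ →
      γ * s y * γ⁻¹ = t x := by
    intro x y hx e
    have e' : (T x : X) = γ * (sb y : X) * γ⁻¹ := by rw [eγ]; exact congrArg Subtype.val e
    rw [hT1 x hx] at e'
    calc γ * s y * γ⁻¹ = (γ * d * γ⁻¹) * (γ * (sb y : X) * γ⁻¹) := by rw [es y]; group
      _ = d * (d * t x) := by rw [hgd, e']
      _ = t x := by rw [← mul_assoc, dd, one_mul]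
  rcases hg with hg | hg
  · exfalso
    refine hkl (hz ▸ ?_)
    refine Commute.list_prod_right _ _ fun z hz => ?_
    obtain ⟨x, hx, rfl⟩ := List.mem_map.1 hz
    have h8 := (by decide : ∀ x ∈ zW, x ∈ nodes8 ∧ x ∈ nodes) x hx
    exact (tr (hconv h8.2 (hg x h8.2))).2 (htJ x h8.1).symm
  have hst : ∀ x (hx : x ∈ nodes), γ * s (swapArms x) * γ⁻¹ = t x := fun x hx => hconv hx (hg x hx)
  have hk3 : ¬ Commute k (s 3) := fun e => htJ9 ((tr (hst 9 (by decide))).1 e).symm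
  have hk8 : ∀ x ∈ nodes, x ≠ 3 → Commute k (s x) := by
    intro x hx hx3
    obtain ⟨hx', hxx, -⟩ := swapArms_mem x hx
    have h8 := (by decide : ∀ x ∈ nodes, x ≠ 3 → swapArms x ∈ nodes8) x hx hx3
    have := (tr (hst _ hx')).2 (htJ _ h8).symm
    rwa [hxx] at this
  have hkj : Commute k j := by
    by_contra hn
    obtain ⟨f, ef⟩ : ∃ f, f = s 5 := ⟨_, rfl⟩
    have hf : f ∈ conjugatesOf d := ef ▸ (hsl 5 (by decide)).1
    obtain ⟨hE, hEP, hE23⟩ := local_at h hf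
    have c5 : ∀ x ∈ [1, 2, 7, 8, 9], Commute f (s x) ∧ s x ≠ f := by
      intro x hx
      obtain ⟨hm, e2, w, hw, e3, e4⟩ := (by decide : ∀ x ∈ [1, 2, 7, 8, 9], x ∈ nodes ∧
        lab11 5 x = 2 ∧ ∃ w ∈ nodes, lab11 x w ≠ lab11 5 w ∧
          lab11 x w + lab11 5 w = 5) x hx
      rw [ef]
      refine ⟨(rel 5 (by decide) x hm).1 e2, fun e => ?_⟩
      rcases (by decide : ∀ x ∈ nodes, ∀ z ∈ nodes, lab11 x z = 1 ∨ lab11 x z = 2 ∨ lab11 x z = 3)
        x hm w hw with h1 | h1 | h1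
      · rcases (by decide : ∀ z ∈ nodes, lab11 5 z ≠ 4) w hw (by omega) with ⟨⟩
      · exact (rel 5 (by decide) w hw).2 (by omega) (e ▸ (rel x hm w hw).1 h1)
      · exact (rel x hm w hw).2 h1 (e ▸ (rel 5 (by decide) w hw).1 (by omega))
    obtain ⟨B, eB⟩ : ∃ B : ∀ u, u ∈ nbrs (conjugatesOf d) f → ↥(Yc G₀ f),
        ∀ u hu, B u hu = ⟨f * u, (bar_ok h hf hu).fst⟩ := ⟨_, fun _ _ => rfl⟩
    have hB : ∀ u hu, B u hu ∈ Tc d G₀ f := fun u hu => eB u hu ▸ (bar_ok h hf hu).snd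
    have cb : ∀ {u v : X} (hu : u ∈ nbrs (conjugatesOf d) f) (hv : v ∈ nbrs (conjugatesOf d) f),
        Commute (B u hu) (B v hv) ↔ Commute u v := by
      intro u v hu hv
      rw [eB, eB, ← commute_shift h hf hu.2.2 hv.2.2]
      exact ⟨fun e => e.map (Yc G₀ f).subtype, fun e => Subtype.ext e.eq⟩
    have nx : ∀ x ∈ [1, 2, 7, 8, 9], s x ∈ nbrs (conjugatesOf d) f := fun x hx =>
      ⟨(hsl x ((by decide : ∀ x ∈ [1, 2, 7, 8, 9], x ∈ nodes) x hx)).1, (c5 x hx).2, (c5 x hx).1⟩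
    have hsP5 := hsP 5 (by decide)
    have nP : P ∈ nbrs (conjugatesOf d) f := ef ▸ ⟨hP, hsP5.2.1.symm, hsP5.2.2.symm⟩
    have nJj : j ∈ nbrs (conjugatesOf d) f :=
      ef ▸ ⟨nj.1, fun e => hpj (e ▸ hsP5.2.2), hsj 5 (by decide)⟩
    have nK : k ∈ nbrs (conjugatesOf d) f :=
      ef ▸ ⟨hkD, fun e => hkl (e ▸ (hsl 5 (by decide)).2.2.symm), (hk8 5 (by decide) (by decide)).symm⟩
    have nL : d ∈ nbrs (conjugatesOf d) f :=
      ef ▸ ⟨hd, fun e => (hsl 5 (by decide)).2.1 e.symm, (hsl 5 (by decide)).2.2.symm⟩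
    have b := nx 2 (by decide)
    have c' := nx 1 (by decide)
    have n7 := nx 7 (by decide)
    have n8 := nx 8 (by decide)
    have n9 := nx 9 (by decide)
    have cn : ∀ {u : X} (hu : u ∈ nbrs (conjugatesOf d) f), Commute (s 2) u → Commute (s 1) u →
        B u hu ∈ CN (Tc d G₀ f) (B _ b) (B _ c') :=
      fun hu h1 h2 => ⟨hB _ hu, (cb b hu).2 h1, (cb c' hu).2 h2⟩
    have r2 : ∀ x z, x ∈ nodes → z ∈ nodes → lab11 x z = 2 → Commute (s x) (s z) :=
      fun x z hx hz => (rel x hx z hz).1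
    have r3 : ∀ x z, x ∈ nodes → z ∈ nodes → lab11 x z = 3 → ¬ Commute (s x) (s z) :=
      fun x z hx hz => (rel x hx z hz).2
    refine no_five_two hE hEP hE23 (hB _ b) (hB _ c')
      (fun e => r3 2 1 (by decide) (by decide) (by decide) ((cb b c').1 e))
      (cn n9 (r2 2 9 (by decide) (by decide) (by decide)) (r2 1 9 (by decide) (by decide) (by decide)))
      (cn nP (hsP 2 (by decide)).2.2.symm (hsP 1 (by decide)).2.2.symm)
      (cn nJj (hsj 2 (by decide)) (hsj 1 (by decide)))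
      (cn nK (hk8 2 (by decide) (by decide)).symm (hk8 1 (by decide) (by decide)).symm)
      (cn nL (hsl 2 (by decide)).2.2.symm (hsl 1 (by decide)).2.2.symm)
      (cn n7 (r2 2 7 (by decide) (by decide) (by decide)) (r2 1 7 (by decide) (by decide) (by decide)))
      (cn n8 (r2 2 8 (by decide) (by decide) (by decide)) (r2 1 8 (by decide) (by decide) (by decide)))
      (fun e => hsj9 ((cb n9 nJj).1 e)) (fun e => hpj ((cb nP nJj).1 e))
      (fun e => hn ((cb nJj nK).1 e).symm) (fun e => hkl ((cb nK nL).1 e))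
      (fun e => r3 7 8 (by decide) (by decide) (by decide) ((cb n7 n8).1 e))
      ((cb n9 nP).2 (hsP 9 (by decide)).2.2.symm)
      ((cb n9 nK).2 (hk8 9 (by decide) (by decide)).symm) ((cb n9 nL).2 (hsl 9 (by decide)).2.2.symm)
      ((cb nP nK).2 hkP.symm) ((cb nP nL).2 np.2.2.symm) ((cb nJj nL).2 nj.2.2.symm)
      ((cb n7 n9).2 (r2 7 9 (by decide) (by decide) (by decide))) ((cb n7 nP).2 (hsP 7 (by decide)).2.2.symm)
      ((cb n7 nJj).2 (hsj 7 (by decide))) ((cb n7 nK).2 (hk8 7 (by decide) (by decide)).symm)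
      ((cb n7 nL).2 (hsl 7 (by decide)).2.2.symm)
      ((cb n8 n9).2 (r2 8 9 (by decide) (by decide) (by decide))) ((cb n8 nP).2 (hsP 8 (by decide)).2.2.symm)
      ((cb n8 nJj).2 (hsj 8 (by decide))) ((cb n8 nK).2 (hk8 8 (by decide) (by decide)).symm)
      ((cb n8 nL).2 (hsl 8 (by decide)).2.2.symm)
      (fun e => (hsP 9 (by decide)).2.1 ?_)
    rw [eB, eB] at e
    exact mul_left_cancel (congrArg Subtype.val e)
  -- the copy of `Fi₂₃`
  obtain ⟨E, hE⟩ := hsb.iso hX hXP hX23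
  have hv : ∀ u : ↥(Yc G₀ d), d * (u : X) * d = u := fun u => by
    rw [(cd u).eq, mul_assoc, dd, mul_one]
  have hb : PresentedGroup.of Cfsg.Spor.Fi23.Gen.b = E.symm (sb 2) := by
    rw [E.eq_symm_apply, hE, show ix23 Cfsg.Spor.Fi23.Gen.b = 2 from rfl,
      tenSeq_node sb jb (by decide : 2 ∈ nodes)]
  refine ⟨k, j, s, (Yc G₀ d).subtype.comp E.toMonoidHom,
    { sq := fun x => ?_, sl := hsl, jl := nj, hk := hkD, kl := hkl, k3 := hk3, k8 := hk8, kj := hkj,
      braid_l := braid_of h hP ⟨hkD, fun e => hkl (e ▸ np.2.2.symm), hkP.symm⟩ ndP hkl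
      braid_3 := braid_of h hP ⟨hkD, fun e => hkl (e ▸ np.2.2.symm), hkP.symm⟩ (hsP 3 (by decide)) hk3
      gen := fun x => ?_, inj := Subtype.val_injective.comp E.injective, comm := fun v => cd _,
      inG := fun v => (mem_Yc.1 (E v).2).1, cent := fun x hx => ?_, near := fun x => ⟨fun hx => ?_, ?_⟩ }⟩
  · rw [es x, ← pow_two, (cd (sb x)).mul_pow, pow_two, pow_two, dd, one_mul, ← Subgroup.coe_mul,
      hsb.nine.sq, Subgroup.coe_one]
  · show (E (PresentedGroup.of x) : X) = _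
    rw [hE]
    rcases ix23_cases x with e | e
    · rw [e, tenSeq_last, tenSeq_last, ej, hv]
    · rw [tenSeq_node _ _ e, tenSeq_node _ _ e, es, hv]
  · by_cases hxG : x ∈ G₀
    · exact ⟨E.symm ⟨x, mem_Yc.2 ⟨hxG, hx.symm⟩⟩, Or.inl (by simp)⟩
    · refine ⟨E.symm ⟨x * d, mem_Yc.2 ⟨(parity h x d).2 (iff_of_false hxG h.out),
        hx.symm.mul_left (Commute.refl d)⟩⟩, Or.inr ?_⟩
      simp [mul_assoc, dd]
  · obtain ⟨m, hm⟩ := bar_ok h hd hx
    obtain ⟨q, hq⟩ := hXP.1 _ (hsb.nine.mem 2 (by decide)).1 _ hm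
    refine ⟨E.symm q * PresentedGroup.of Cfsg.Spor.Fi23.Gen.b * (E.symm q)⁻¹,
      trSet_b.trans (isConj_iff.2 ⟨_, rfl⟩), ?_⟩
    rw [hb, ← map_inv, ← map_mul, ← map_mul, hq]
    show x = ((E (E.symm ⟨d * x, m⟩) : ↥(Yc G₀ d)) : X) * d
    rw [E.apply_symm_apply]
    show x = d * x * d
    rw [mul_assoc, ← hx.2.2.eq, ← mul_assoc, dd, one_mul]
  · rintro ⟨u, hu, rfl⟩
    obtain ⟨v, rfl⟩ := isConj_iff.1 (trSet_b.symm.trans hu)
    have hm : E (v * PresentedGroup.of Cfsg.Spor.Fi23.Gen.b * v⁻¹) ∈ Tc d G₀ d := by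
      rw [map_mul, map_mul, map_inv, hb, E.apply_symm_apply]
      exact hX.2.1 _ _ (hsb.nine.mem 2 (by decide)).1
    have hm' : d * ((E (v * PresentedGroup.of Cfsg.Spor.Fi23.Gen.b * v⁻¹) : ↥(Yc G₀ d)) : X) ∈
        nbrs (conjugatesOf d) d := hm
    rw [(cd _).eq] at hm'
    exact hm'

end CfsgLib.Trans3.Fi24Loc
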