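import Cfsg.Agent.Lib.Trans3.Fi24Loc.Hom
import Cfsg.Agent.Lib.InvChar.SporFi24Trans
import Cfsg.Agent.Lib.Trans3.Fi.InvolM24
import Cfsg.Agent.Lib.InvChar.TypeFi24

/-!
The embedded `Fi₂₄`: its transpositions form a component, and it contains the centraliser of each and
of the product of two adjacent ones.
-/

set_option autoImplicit false
set_option linter.unusedSectionVars false
set_option maxRecDepth 100000

namespace CfsgLib.Trans3.Fi24Loc

open CfsgLib.InvChar CfsgLib.InvChar.Coset CfsgLib.Trans3 CfsgLib.Trans3.Fi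

local notation "D₂₄" => conjugatesOf SporFi24.trans

variable {X : Type*} [Group X] [Finite X] {d : X} {G₀ : Subgroup X}

/-- An injective homomorphism with `l` going to `d`. -/
structure Emb (d : X) (E : Cfsg.Spor.Fi24 →* X) : Prop where
  inj : Function.Injective E
  map_trans : E SporFi24.trans = d

/-- A surjective homomorphism of the presented Fi24 onto a group of order at least three is injective. -/
theorem injective_of_large {G : Type*} [Group G] (E : Cfsg.Spor.Fi24 →* G) (hE : Function.Surjective E)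
    (hG : 2 < Nat.card G) : Function.Injective E := by
  haveI := SporFi24.finite
  refine (MonoidHom.ker_eq_bot_iff E).1 ?_
  by_contra hne
  have hle := SporFi24.commutator_le_of_normal (MonoidHom.normal_ker E) hne
  have h2 : E.ker.index ∣ 2 := by
    have := Subgroup.index_dvd_of_le hle
    rwa [Cfsg.Agent.S1691.result] at this
  have h3 := Nat.le_of_dvd two_pos h2
  rw [Subgroup.index_ker, MonoidHom.range_eq_top.2 hE, Subgroup.card_top] at h3
  omega

variable (h : Loc24 d G₀)
include h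

theorem exists_emb : ∃ E : Cfsg.Spor.Fi24 →* X, Emb d E := by
  obtain ⟨k, j, s, ι, hc⟩ := exists_conf h
  let M : Mark d G₀ := ⟨k, j, s, ι, h, hc⟩
  let E : Cfsg.Spor.Fi24 →* X := PresentedGroup.toGroup M.rels24
  have hE : ∀ y, E (PresentedGroup.of y) = M.lett12 (letter24 y) := fun y =>
    PresentedGroup.toGroup.of M.rels24
  have el : E (PresentedGroup.of Cfsg.Spor.Fi24.Gen.l) = d := by
    rw [hE]; simp [Mark.lett12, Mark.lett, letter24]
  have ek : E (PresentedGroup.of Cfsg.Spor.Fi24.Gen.k) = k := by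
    rw [hE]; simp [Mark.lett12, letter24, M]
  have htr : SporFi24.trans = PresentedGroup.of Cfsg.Spor.Fi24.Gen.l := by
    show SporFi24.pres.gen 0 = _
    rw [IsPres.gen, if_pos (by norm_num)]
    rfl
  refine ⟨E, ?_, htr ▸ el⟩
  have hd : d ∈ conjugatesOf d := mem_conjugatesOf_self
  have h3 : 2 < Nat.card E.range := by
    have hne : d ≠ k := fun e => hc.kl (e ▸ Commute.refl d)
    have h1 : ({1, d, k} : Set X).ncard = 3 :=
      Set.ncard_eq_three.2 ⟨1, d, k, fun e => invol_ne_one (ordD h hd) e.symm,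
        fun e => invol_ne_one (ordD h hc.hk) e.symm, hne, rfl⟩
    have h2 : ({1, d, k} : Set X) ⊆ (E.range : Set X) := by
      intro x hx
      simp only [Set.mem_insert_iff, Set.mem_singleton_iff] at hx
      rcases hx with rfl | rfl | rfl
      exacts [one_mem _, ⟨_, el⟩, ⟨_, ek⟩]
    have := Set.ncard_le_ncard h2 (Set.toFinite _)
    rw [h1, ← Nat.card_coe_set_eq] at this
    exact this
  exact fun a b e => injective_of_large E.rangeRestrict
    E.rangeRestrict_surjective h3 (Subtype.ext e)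

/-- The neighbours of `d` are in bijection with a class of 31671 transpositions. -/
theorem ncard_nbrs : (nbrs (conjugatesOf d) d).ncard = 31671 := by
  have hd : d ∈ conjugatesOf d := mem_conjugatesOf_self
  obtain ⟨hX, hXP, hX23⟩ := local_at h hd
  rw [← m23_card_D hX hXP hX23]
  refine Set.ncard_congr (fun u hu => ⟨d * u, (bar_ok h hd hu).fst⟩) (fun u hu => (bar_ok h hd hu).snd)
    (fun u v _ _ e => mul_left_cancel (congrArg Subtype.val e)) fun t ht => ?_
  refine ⟨d * (t : X), ht, Subtype.ext ?_⟩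
  show d * (d * (t : X)) = t
  rw [← mul_assoc, sqD h hd, one_mul]

variable {E : Cfsg.Spor.Fi24 →* X} (hE : Emb d E)
include hE

theorem emb_mem {x : Cfsg.Spor.Fi24} (hx : x ∈ D₂₄) : E x ∈ conjugatesOf d := by
  have := MonoidHom.map_isConj E (show IsConj SporFi24.trans x from hx)
  rwa [hE.map_trans] at this

/-- The image of the transpositions is closed under adjacency. -/
theorem emb_nbr {x : Cfsg.Spor.Fi24} (hx : x ∈ D₂₄) {u : X} (hu : u ∈ conjugatesOf d)
    (hc : Commute (E x) u) : ∃ y ∈ D₂₄, E y = u := by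
  haveI := SporFi24.finite
  have base : ∀ u ∈ nbrs (conjugatesOf d) d, ∃ y ∈ nbrs D₂₄ SporFi24.trans, E y = u := by
    intro u hu
    have e : E '' nbrs D₂₄ SporFi24.trans = nbrs (conjugatesOf d) d := by
      refine Set.eq_of_subset_of_ncard_le ?_ ?_ (Set.toFinite _)
      · rintro _ ⟨y, ⟨hy, hne, hcy⟩, rfl⟩
        refine ⟨emb_mem h hE hy, fun e => hne (hE.inj (e.trans hE.map_trans.symm)), ?_⟩
        have := hcy.map E
        rwa [hE.map_trans] at this
      · rw [ncard_nbrs h, Set.ncard_image_of_injective _ hE.inj,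
          card_nbrs24 TypeFi24.isGroup SporFi24.isPrimitive TypeFi24.typeM24 mem_conjugatesOf_self]
    rw [← e] at hu
    exact hu
  obtain ⟨g, rfl⟩ := isConj_iff.1 (show IsConj SporFi24.trans x from hx)
  rw [map_mul, map_mul, map_inv, hE.map_trans] at hc
  by_cases e : u = E g * d * (E g)⁻¹
  · exact ⟨_, isConj_iff.2 ⟨g, rfl⟩, by rw [map_mul, map_mul, map_inv, hE.map_trans, e]⟩
  have hn : (E g)⁻¹ * u * E g ∈ nbrs (conjugatesOf d) d := by
    have := nbrs_conj h (g := (E g)⁻¹) (a := E g * d * (E g)⁻¹) ⟨hu, e, hc⟩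
    rwa [show (E g)⁻¹ * (E g * d * (E g)⁻¹) * (E g)⁻¹⁻¹ = d by group, inv_inv] at this
  obtain ⟨y, hy, ey⟩ := base _ hn
  refine ⟨g * y * g⁻¹, TypeFi24.isGroup.2.1 g y hy.1, ?_⟩
  rw [map_mul, map_mul, map_inv, ey]
  group

/-- The centraliser of `d` lies in the image. -/
theorem cent_le {g : X} (hg : Commute g d) : g ∈ E.range := by
  have hd : d ∈ conjugatesOf d := mem_conjugatesOf_self
  have dd := sqD h hd
  have dR : d ∈ E.range := ⟨_, hE.map_trans⟩
  have hY : ∀ y : ↥(Yc G₀ d), (y : X) ∈ E.range := by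
    obtain ⟨hX, -, -⟩ := local_at h hd
    intro y
    have hy : y ∈ Subgroup.closure (Tc d G₀ d) := hX.2.2 ▸ Subgroup.mem_top y
    induction hy using Subgroup.closure_induction with
    | mem t ht =>
      have ht' : d * (t : X) ∈ nbrs (conjugatesOf d) d := ht
      obtain ⟨y, -, ey⟩ := emb_nbr h hE mem_conjugatesOf_self ht'.1 (hE.map_trans.symm ▸ ht'.2.2)
      rw [show (t : X) = d * E y by rw [ey, ← mul_assoc, dd, one_mul]]
      exact mul_mem dR ⟨y, rfl⟩
    | one => exact one_mem _
    | mul a b _ _ ha hb => exact mul_mem ha hb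
    | inv a _ ha => exact inv_mem ha
  by_cases hG : g ∈ G₀
  · exact hY ⟨g, mem_Yc.2 ⟨hG, hg⟩⟩
  · have := hY ⟨g * d, mem_Yc.2 ⟨(parity h g d).2 (iff_of_false hG h.out),
      hg.mul_left (Commute.refl d)⟩⟩
    have h2 := mul_mem this dR
    rwa [show g * d * d = g by rw [mul_assoc, dd, mul_one]] at h2

/-- An element taking one transposition of the image into the image lies in it. -/
theorem stab_mem {x y : Cfsg.Spor.Fi24} (hx : x ∈ D₂₄) (hy : y ∈ D₂₄) {g : X}
    (hg : g * E x * g⁻¹ = E y) : g ∈ E.range := by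
  obtain ⟨a, rfl⟩ := isConj_iff.1 (show IsConj SporFi24.trans x from hx)
  obtain ⟨b, rfl⟩ := isConj_iff.1 (show IsConj SporFi24.trans y from hy)
  rw [map_mul, map_mul, map_mul, map_mul, map_inv, map_inv, hE.map_trans] at hg
  have hc : Commute ((E b)⁻¹ * g * E a) d := by
    show (E b)⁻¹ * g * E a * d = d * ((E b)⁻¹ * g * E a)
    calc (E b)⁻¹ * g * E a * d = (E b)⁻¹ * (g * (E a * d * (E a)⁻¹) * g⁻¹) * g * E a := by group
      _ = (E b)⁻¹ * (E b * d * (E b)⁻¹) * g * E a := by rw [hg]
      _ = d * ((E b)⁻¹ * g * E a) := by group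
  have := mul_mem (mul_mem (⟨b, rfl⟩ : E b ∈ E.range) (cent_le h hE hc))
    (inv_mem (⟨a, rfl⟩ : E a ∈ E.range))
  rwa [show E b * ((E b)⁻¹ * g * E a) * (E a)⁻¹ = g by group] at this

/-- The centraliser of the product of two adjacent transpositions. -/
theorem pair_le {x y : Cfsg.Spor.Fi24} (hx : x ∈ D₂₄) (hy : y ∈ D₂₄) (hne : y ≠ x)
    (hc : Commute x y) {g : X} (hg : Commute g (E x * E y)) : g ∈ E.range := by
  rcases h.pair _ _ g (emb_mem h hE hx)
    ⟨emb_mem h hE hy, fun e => hne (hE.inj e), hc.map E⟩ hg with e | e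
  · exact stab_mem h hE hx hx e
  · exact stab_mem h hE hx hy e

/-- A member inside the image is a transposition of it. -/
theorem mem_of_range {x : Cfsg.Spor.Fi24} (hu : E x ∈ conjugatesOf d) : x ∈ D₂₄ := by
  haveI := SporFi24.finite
  have hx2 : x * x = 1 := hE.inj (by rw [map_mul, map_one, sqD h hu])
  obtain ⟨a, ha, hc⟩ := m24_fixed TypeFi24.isGroup SporFi24.isPrimitive TypeFi24.typeM24 hx2
  obtain ⟨y, hy, e⟩ := emb_nbr h hE ha hu (hc.symm.map E)
  exact hE.inj e ▸ hy

end CfsgLib.Trans3.Fi24Loc
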