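import Cfsg.Agent.Lib.Trans3.Fi24Loc.Third
import Cfsg.Agent.Lib.Trans3.FiConf.Hom24Check
import Cfsg.Prelude.Def_Spor_Fi24

/-!
The local axioms give a homomorphism of the presented `Fi₂₄`, the generators going to members.
-/

set_option autoImplicit false
set_option linter.unusedSectionVars false
set_option maxRecDepth 100000

namespace CfsgLib.Trans3.Fi24Loc

open CfsgLib.InvChar CfsgLib.InvChar.Coset CfsgLib.Trans3.Fi CfsgLib.Trans3.FiConf Hom24Check

/-- A configuration with the axioms. -/
structure Mark {G : Type*} [Group G] (d : G) (G₀ : Subgroup G) where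
  k : G
  j : G
  s : ℕ → G
  ι : Cfsg.Spor.Fi23 →* G
  ax : Loc24 d G₀
  cfg : Conf d G₀ k j s ι

section

variable {G : Type*} [Group G] [Finite G] {d : G} {G₀ : Subgroup G} (M : Mark d G₀)

theorem Mark.dd (M : Mark d G₀) : d * d = 1 := sqD M.ax mem_conjugatesOf_self

/-- A letter as a member: ten members, and `l`. -/
noncomputable def Mark.lett (x : ℕ) : G := if x < 10 then M.ι (SporFi23.gen x) * d else d

/-- A letter, with `11` for `k`. -/
noncomputable def Mark.lett12 (x : ℕ) : G := if x = 11 then M.k else M.lett x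

/-- The element of a word. -/
noncomputable def Mark.wl (w : List ℕ) : G := wprod M.lett w

theorem Mark.lett_mul_self (x : ℕ) : M.lett x * M.lett x = 1 := by
  unfold Mark.lett
  split
  · rw [mul_assoc, ← mul_assoc d, (M.cfg.comm _).eq, mul_assoc, M.dd, mul_one, ← map_mul,
      SporFi23.gen_mul_self, map_one]
  · exact M.dd

theorem Mark.kk : M.k * M.k = 1 := sqD M.ax M.cfg.hk

theorem Mark.lett_comm_l (x : ℕ) : Commute d (M.lett x) := by
  unfold Mark.lett
  split
  · exact (M.cfg.comm _).mul_right (Commute.refl _)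
  · exact Commute.refl _

theorem Mark.wl_comm_l (w : List ℕ) : Commute d (M.wl w) := by
  induction w with
  | nil => exact Commute.one_right _
  | cons x w ih => exact (M.lett_comm_l x).mul_right ih

theorem Mark.wl_eq : ∀ w : List ℕ, M.wl w = M.ι (wprod SporFi23.gen (flt w)) * d ^ w.length
  | [] => by simp [Mark.wl, wprod, flt]
  | x :: w => by
    have ih := Mark.wl_eq w
    rw [show M.wl (x :: w) = M.lett x * M.wl w by simp [Mark.wl, wprod], ih]
    by_cases hx : x < 10
    · rw [show flt (x :: w) = x :: flt w by simp [flt, hx],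
        show wprod (SporFi23.gen : ℕ → Cfsg.Spor.Fi23) (x :: flt w) =
          SporFi23.gen x * wprod SporFi23.gen (flt w) by simp [wprod],
        map_mul, List.length_cons, pow_succ', Mark.lett, if_pos hx]
      rw [mul_assoc, ← mul_assoc d, (M.cfg.comm _).eq]
      simp only [mul_assoc]
    · rw [show flt (x :: w) = flt w by simp [flt, hx], List.length_cons, pow_succ', Mark.lett,
        if_neg hx, ← mul_assoc, (M.cfg.comm _).eq, mul_assoc]

theorem flt_lt (w : List ℕ) : ∀ x ∈ flt w, x < 10 := fun x hx => by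
  simpa [flt] using (List.mem_filter.1 hx).2

theorem rep_wprod_val {L : List ℕ} (hL : ∀ x ∈ L, x < 10) (p : StructB.Fi23Tri.Pt) :
    (SporFi23.rep (wprod SporFi23.gen L) p : ℕ) = F23.table.follow L.reverse p := by
  rw [← StructB.Fi23Tri.rep_inv_val L.reverse (fun x hx => hL x (List.mem_reverse.1 hx)) p,
    wprod_reverse _ SporFi23.gen_mul_self, inv_inv]

theorem Mark.wl_eq_of {w w' : List ℕ} (h : eqL w w' = true) : M.wl w = M.wl w' := by
  simp only [eqL, Bool.and_eq_true, List.all_eq_true, Nat.beq_eq] at h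
  obtain ⟨hp, hq⟩ := h
  rw [M.wl_eq, M.wl_eq, pow_eq_pow_mod w.length (by rw [pow_two]; exact M.dd : d ^ 2 = 1), hp,
    ← pow_eq_pow_mod w'.length (by rw [pow_two]; exact M.dd : d ^ 2 = 1)]
  congr 2
  refine StructB.Fi23Tri.eq_of_genPt fun x hx => Fin.ext ?_
  rw [rep_wprod_val (flt_lt w), rep_wprod_val (flt_lt w')]
  have hv : (StructB.Fi23Tri.genPt x : ℕ) = StructB.Fi23Tri.ptL.getD x 0 :=
    StructB.Fi23Tri.mkPt_val
      ((by decide +kernel : ∀ x < 10, StructB.Fi23Tri.ptL.getD x 0 < 31671) x hx)
  rw [hv]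
  refine hq _ ?_
  rw [List.getD_eq_getElem _ _ (show x < StructB.Fi23Tri.ptL.length from hx)]
  exact List.getElem_mem _

theorem Mark.wl_append (u v : List ℕ) : M.wl (u ++ v) = M.wl u * M.wl v := wprod_append _ _ _

theorem Mark.wl_reverse (u : List ℕ) : M.wl u.reverse = (M.wl u)⁻¹ :=
  wprod_reverse _ M.lett_mul_self u

theorem Mark.wl_singleton (x : ℕ) : M.wl [x] = M.lett x := by simp [Mark.wl, wprod]

theorem Mark.lett_eq_ten {y : Cfsg.Spor.Fi23.Gen} :
    M.ι (PresentedGroup.of y) * d = tenSeq M.s M.j (ix23 y) := by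
  rw [M.cfg.gen, mul_assoc, M.dd, mul_one]

theorem Mark.lett_a : M.lett 0 = M.s 3 := by
  rw [Mark.lett, if_pos (by norm_num),
    show (SporFi23.gen 0 : Cfsg.Spor.Fi23) = PresentedGroup.of Cfsg.Spor.Fi23.Gen.a from rfl,
    M.lett_eq_ten, show ix23 Cfsg.Spor.Fi23.Gen.a = 3 from rfl,
    tenSeq_node M.s M.j (by decide : 3 ∈ nodes)]

theorem Mark.nine_comm {x : ℕ} (h1 : 0 < x) (h10 : x < 10) : Commute M.k (M.lett x) := by
  obtain ⟨y, ey, hy⟩ : ∃ y : Cfsg.Spor.Fi23.Gen, SporFi23.ofN x = y ∧ ix23 y ≠ 3 := ⟨_, rfl, by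
    interval_cases x <;> decide⟩
  have eg : (SporFi23.gen x : Cfsg.Spor.Fi23) = PresentedGroup.of y := by
    show SporFi23.pres.gen x = _
    rw [IsPres.gen, if_pos h10, ey]
  rw [Mark.lett, if_pos h10, eg, M.lett_eq_ten]
  rcases ix23_cases y with e | e
  · rw [e, tenSeq_last]; exact M.cfg.kj
  · rw [tenSeq_node _ _ e]; exact M.cfg.k8 _ e hy

theorem Mark.extra_comm : Commute M.k (M.wl extraWord) := by
  have h := extra_ok
  simp only [extraOK, Bool.and_eq_true, List.all_eq_true, Nat.blt_eq, Nat.beq_eq] at h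
  obtain ⟨hP, -, -⟩ := h
  have hflt : flt extraWord = extraWord := List.filter_eq_self.2 fun x hx => by
    simp only [extraWord, List.mem_append, List.mem_reverse] at hx
    rcases hx with (hx | hx) | hx
    exacts [by simpa using hP x hx, by simpa using SporFi23.tWord_lt x hx, by simpa using hP x hx]
  rw [M.wl_eq, hflt, show extraWord.length = 2 * 64 + 1 by decide +kernel, pow_succ, pow_mul, pow_two,
    M.dd, one_pow, one_mul]
  obtain ⟨p, ep⟩ : ∃ p, p = SporFi23.rep (wprod SporFi23.gen Hom24Data.xPath)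
    (⟨0, F23.covered.hn⟩ : StructB.Fi23Tri.Pt) := ⟨_, rfl⟩
  have hp : StructB.Fi23Tri.colOf p < 3 := by
    rw [ep, rep_wprod_val hP]
    decide +kernel
  have ht : StructB.Fi23Tri.tau p = wprod SporFi23.gen extraWord := by
    rw [ep, ← StructB.Fi23Tri.tau_conj, StructB.Fi23Tri.tau_zero, extraWord, wprod_append,
      wprod_append, wprod_reverse _ SporFi23.gen_mul_self, SporFi23.t_eq]
  rw [← ht]
  exact colour_comm M.ax M.cfg hp

theorem Mark.expand_comm (c : List ℕ) : Commute M.k (M.wl (expand c)) := by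
  induction c with
  | nil => exact Commute.one_right _
  | cons i c ih =>
    rw [show expand (i :: c) = (bif Nat.blt 0 i && Nat.blt i 10 then [i] else extraWord) ++ expand c
      from rfl, M.wl_append]
    refine Commute.mul_right ?_ ih
    cases hb : Nat.blt 0 i && Nat.blt i 10
    · exact M.extra_comm
    · simp only [Bool.and_eq_true, Nat.blt_eq] at hb
      rw [cond_true, M.wl_singleton]
      exact M.nine_comm hb.1 hb.2

theorem Mark.braid_ka : M.k * M.lett 0 * M.k = M.lett 0 * M.k * M.lett 0 := by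
  rw [M.lett_a]
  exact M.cfg.braid_3

theorem Mark.braid_kl : M.k * d * M.k = d * M.k * d := M.cfg.braid_l

/-- The member of a state. -/
noncomputable def Mark.mem (st : St) : G :=
  M.wl st.1 * M.lett12 st.2 * (M.wl st.1)⁻¹

theorem Mark.mem_word {w : List ℕ} {β : ℕ} (h : β ≠ 11) : M.mem (w, β) = M.wl (memWord (w, β)) := by
  rw [memWord, M.wl_append, M.wl_append, M.wl_reverse, M.wl_singleton, Mark.mem, Mark.lett12,
    if_neg h]

theorem Mark.kinv : M.k⁻¹ = M.k := inv_eq_of_mul_eq_one_right M.kk

theorem Mark.stepK_sound : ∀ {h : ℕ × List ℕ × List ℕ} {st st' : St}, stepK h st = some st' →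
    M.mem st' = M.k * M.mem st * M.k := by
  rintro ⟨kind, s, c⟩ ⟨w, β⟩ st' h0
  have hS := M.expand_comm s
  have hC := M.expand_comm c
  have a2 := M.lett_mul_self 0
  match kind, h0 with
  | 0, h =>
    simp only [stepK] at h
    cases hb : Nat.beq β 10 <;> rw [hb] at h <;> simp only [cond_true, cond_false, reduceCtorEq,
      Option.some.injEq] at h
    rw [← h, Nat.eq_of_beq_eq_true hb]
    have hw := M.wl_comm_l w
    simp only [Mark.mem, M.wl_singleton, Mark.lett12, Mark.lett]
    norm_num
    rw [← hw.eq, mul_inv_cancel_right, inv_eq_of_mul_eq_one_right M.dd, M.braid_kl]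
  | 1, h =>
    simp only [stepK] at h
    cases hb : (Nat.beq β 11 && eqL w ([10] ++ expand c)) <;> rw [hb] at h <;>
      simp only [cond_true, cond_false, reduceCtorEq, Option.some.injEq] at h
    simp only [Bool.and_eq_true, Nat.beq_eq] at hb
    obtain ⟨rfl, he⟩ := hb
    rw [← h]
    have e := M.wl_eq_of he
    rw [M.wl_append, M.wl_singleton] at e
    simp only [Mark.mem, Mark.lett12, e]
    norm_num [Mark.lett, show M.wl [] = 1 from rfl]
    rw [show d * M.wl (expand c) * M.k * ((M.wl (expand c))⁻¹ * d⁻¹) =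
        d * (M.wl (expand c) * M.k * (M.wl (expand c))⁻¹) * d⁻¹ by group,
      hC.symm.eq, mul_inv_cancel_right, inv_eq_of_mul_eq_one_right M.dd]
    calc d = M.k * (M.k * d * M.k) * M.k := by
          rw [show M.k * (M.k * d * M.k) * M.k = (M.k * M.k) * d * (M.k * M.k) by group, M.kk,
            one_mul, mul_one]
      _ = M.k * (d * M.k * d) * M.k := by rw [M.braid_kl]
  | 2, h =>
    simp only [stepK] at h
    cases hb : (!Nat.beq β 11 && eqL (memWord (w, β)) (memWord (expand s, 1))) <;> rw [hb] at h <;>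
      simp only [cond_true, cond_false, reduceCtorEq, Option.some.injEq] at h
    simp only [Bool.and_eq_true, Bool.not_eq_true'] at hb
    have hβ : β ≠ 11 := fun e => by simp [e] at hb
    rw [← h, M.mem_word hβ, M.wl_eq_of hb.2, ← M.mem_word (by norm_num : (1 : ℕ) ≠ 11), Mark.mem]
    have hk : Commute M.k (M.wl (expand s) * M.lett12 1 * (M.wl (expand s))⁻¹) :=
      (hS.mul_right (by simpa [Mark.lett12] using M.nine_comm (by norm_num) (by norm_num : 1 < 10))).mul_right hS.inv_right
    show _ = M.k * (M.wl (expand s) * M.lett12 1 * (M.wl (expand s))⁻¹) * M.k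
    rw [hk.eq, mul_assoc _ M.k M.k, M.kk, mul_one]
  | 3, h =>
    simp only [stepK] at h
    cases hb : (!Nat.beq β 11 && eqL (memWord (w, β)) (memWord (expand s, 0))) <;> rw [hb] at h <;>
      simp only [cond_true, cond_false, reduceCtorEq, Option.some.injEq] at h
    simp only [Bool.and_eq_true, Bool.not_eq_true'] at hb
    have hβ : β ≠ 11 := fun e => by simp [e] at hb
    rw [← h, M.mem_word hβ, M.wl_eq_of hb.2, ← M.mem_word (by norm_num : (0 : ℕ) ≠ 11)]
    simp only [Mark.mem, M.wl_append, M.wl_singleton, Mark.lett12]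
    norm_num
    calc M.wl (expand s) * M.lett 0 * M.k * ((M.lett 0)⁻¹ * (M.wl (expand s))⁻¹)
        = M.wl (expand s) * (M.k * M.lett 0 * M.k) * (M.wl (expand s))⁻¹ := by
          rw [M.braid_ka, inv_eq_of_mul_eq_one_right a2]; group
      _ = (M.wl (expand s) * M.k) * M.lett 0 * (M.k * (M.wl (expand s))⁻¹) := by group
      _ = _ := by rw [← hS.eq, hS.inv_right.eq]; group
  | n + 4, h =>
    simp only [stepK] at h
    cases hb : (Nat.beq β 11 && eqL w (expand s ++ [0] ++ expand c)) <;> rw [hb] at h <;>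
      simp only [cond_true, cond_false, reduceCtorEq, Option.some.injEq] at h
    simp only [Bool.and_eq_true, Nat.beq_eq] at hb
    obtain ⟨rfl, he⟩ := hb
    rw [← h]
    have e := M.wl_eq_of he
    rw [M.wl_append, M.wl_append, M.wl_singleton] at e
    simp only [Mark.mem, Mark.lett12, e]
    norm_num
    obtain ⟨S, eS⟩ : ∃ S, S = M.wl (expand s) := ⟨_, rfl⟩
    rw [← eS] at hS ⊢
    symm
    calc M.k * (S * M.lett 0 * M.wl (expand c) * M.k *
          ((M.wl (expand c))⁻¹ * ((M.lett 0)⁻¹ * S⁻¹))) * M.k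
        = (M.k * S) * (M.lett 0 * (M.wl (expand c) * M.k * (M.wl (expand c))⁻¹) * (M.lett 0)⁻¹) *
            (S⁻¹ * M.k) := by group
      _ = (S * M.k) * (M.lett 0 * M.k * M.lett 0) * (M.k * S⁻¹) := by
        rw [hS.eq, hC.symm.eq, mul_inv_cancel_right, inv_eq_of_mul_eq_one_right a2, hS.inv_right.eq]
      _ = S * (M.k * M.k) * M.lett 0 * (M.k * M.k) * S⁻¹ := by rw [← M.braid_ka]; group
      _ = S * M.lett 0 * S⁻¹ := by rw [M.kk, mul_one, mul_one]

/-- The element of a word in the order of application. -/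
noncomputable def Mark.app (L : List ℕ) : G := wprod M.lett12 L.reverse

theorem Mark.app_cons (x : ℕ) (L : List ℕ) : M.app (x :: L) = M.app L * M.lett12 x := by
  simp [Mark.app, wprod]

theorem Mark.app_append (u v : List ℕ) : M.app (u ++ v) = M.app v * M.app u := by
  simp [Mark.app, wprod_append]

theorem Mark.run_sound : ∀ {L : List ℕ} {H : List (ℕ × List ℕ × List ℕ)} {st st' : St},
    run L H st = some st' → M.mem st' = M.app L * M.mem st * (M.app L)⁻¹
  | [], [], st, st', h => by
    simp only [run, Option.some.injEq] at h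
    simp [← h, Mark.app, wprod]
  | [], _ :: _, st, st', h => by simp [run] at h
  | x :: L, H, (w, β), st', h => by
    rw [M.app_cons]
    simp only [run] at h
    cases hb : Nat.beq x 11 <;> rw [hb] at h
    · have hx : x ≠ 11 := fun e => by simp [e] at hb
      rw [Mark.run_sound h]
      simp only [Mark.mem, Mark.lett12, if_neg hx]
      rw [show M.wl (x :: w) = M.lett x * M.wl w by simp [Mark.wl, wprod]]
      group
    · cases H with
      | nil => simp at h
      | cons hh H =>
        simp only at h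
        cases hs : stepK hh (w, β) with
        | none => rw [hs] at h; simp at h
        | some st₁ =>
          rw [hs] at h
          rw [Mark.run_sound h, M.stepK_sound hs, Mark.lett12, if_pos (Nat.eq_of_beq_eq_true hb),
            mul_inv_rev, M.kinv]
          group

theorem Mark.app_flatTok (t : ℕ × List ℕ) : M.app (flatTok t) = M.app [projTok t] := by
  rw [flatTok, projTok]
  cases Nat.beq t.1 12
  · rfl
  have hA : M.app (ffWord t.2) = M.wl (expand t.2) * M.lett 0 * (M.wl (expand t.2))⁻¹ := by
    have h12 : ∀ x ∈ ffWord t.2, x ≠ 11 := by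
      intro x hx e
      subst e
      simp only [ffWord, List.mem_append, List.mem_singleton, List.mem_reverse] at hx
      have hne : 11 ∉ expand t.2 := by
        intro hm
        simp only [expand, List.mem_flatMap] at hm
        obtain ⟨i, -, hi⟩ := hm
        cases hb : Nat.blt 0 i && Nat.blt i 10 <;> rw [hb] at hi
        · exact (by decide +kernel : 11 ∉ extraWord) hi
        · simp only [Bool.and_eq_true, Nat.blt_eq] at hb
          simp only [cond_true, List.mem_singleton] at hi
          omega
      rcases hx with (hx | hx) | hx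
      exacts [hne hx, absurd hx (by norm_num), hne hx]
    have e : M.app (ffWord t.2) = M.wl (ffWord t.2).reverse :=
      congrArg List.prod (List.map_congr_left fun x hx => by
        simp only [Mark.lett12, if_neg (h12 x (List.mem_reverse.1 hx))])
    rw [e, ffWord, List.reverse_append, List.reverse_append, List.reverse_reverse, M.wl_append,
      M.wl_append, ← List.reverse_singleton (a := 0)]
    simp only [M.wl_reverse, M.wl_singleton, inv_eq_of_mul_eq_one_right (M.lett_mul_self 0), List.reverse_reverse, mul_assoc]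
  have hk : M.app [11] = M.k := by simp [Mark.app, wprod, Mark.lett12]
  rw [cond_true, cond_true, M.app_append, M.app_append, M.app_append, M.app_append, hA, hk]
  obtain ⟨S, eS⟩ : ∃ S, S = M.wl (expand t.2) := ⟨_, rfl⟩
  have hS := M.expand_comm t.2
  rw [← eS] at hS ⊢
  have hk' : S⁻¹ * M.k * S = M.k := by rw [mul_assoc, hS.eq, inv_mul_cancel_left]
  have a2 := M.lett_mul_self 0
  calc S * M.lett 0 * S⁻¹ * (M.k * (S * M.lett 0 * S⁻¹ * (M.k * (S * M.lett 0 * S⁻¹))))
      = S * M.lett 0 * (S⁻¹ * M.k * S) * M.lett 0 * (S⁻¹ * M.k * S) * M.lett 0 * S⁻¹ := by group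
    _ = S * (M.lett 0 * M.k * M.lett 0) * M.k * M.lett 0 * S⁻¹ := by rw [hk']; group
    _ = S * (M.k * M.lett 0 * M.k) * M.k * M.lett 0 * S⁻¹ := by rw [M.braid_ka]
    _ = S * M.k * M.lett 0 * (M.k * M.k) * M.lett 0 * S⁻¹ := by group
    _ = S * M.k * (M.lett 0 * M.lett 0) * S⁻¹ := by rw [M.kk]; group
    _ = M.k := by rw [a2, mul_one, ← hS.eq, mul_inv_cancel_right]

theorem Mark.app_flat : ∀ sk : List (ℕ × List ℕ),
    M.app (sk.flatMap flatTok) = M.app (sk.map projTok)
  | [] => rfl
  | t :: sk => by
    rw [List.flatMap_cons, List.map_cons, M.app_append, Mark.app_flat sk, M.app_flatTok t,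
      ← M.app_append]
    rfl

theorem Mark.runAll_sound : ∀ {R : List (List (ℕ × List ℕ) × List (ℕ × List ℕ × List ℕ))}
    {st : St} {l : List St}, runAll R st = some l → ∀ i < l.length,
      M.mem (l.getD i start) = M.app wRev ^ (i + 1) * M.mem st * (M.app wRev ^ (i + 1))⁻¹
  | [], st, l, h, i, hi => by
    simp only [runAll, Option.some.injEq] at h
    subst h
    simp at hi
  | (sk, H) :: R, st, l, h, i, hi => by
    simp only [runAll] at h
    cases he : (sk.map projTok == wRev)
    · rw [he] at h; simp at h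
    cases hr : run (sk.flatMap flatTok) H st with
    | none => rw [he, hr] at h; simp at h
    | some st₁ =>
      rw [he, hr] at h
      simp only at h
      cases hR : runAll R st₁ with
      | none => rw [hR] at h; simp at h
      | some l₁ =>
        rw [hR] at h
        simp only [Option.some.injEq] at h
        subst h
        have h1 := M.run_sound hr
        rw [M.app_flat, beq_iff_eq.1 he] at h1
        cases i with
        | zero => simpa using h1
        | succ i =>
          rw [List.getD_cons_succ, Mark.runAll_sound hR i (by simpa using hi), h1, pow_succ _ (i + 1)]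
          group

theorem Mark.mem_start : M.mem start = d := by
  simp [Mark.mem, start, Mark.lett12, Mark.lett, Mark.wl, wprod]

attribute [local irreducible] runAll checkAll

/-- The relator. -/
theorem Mark.relator : M.app wRev ^ 17 = 1 := by
  have h := check_ok
  unfold checkAll at h
  cases hR : runAll Hom24Data.rounds start with
  | none => rw [hR] at h; simp at h
  | some l =>
    rw [hR] at h
    simp only [Bool.and_eq_true, Nat.beq_eq, Nat.blt_eq, List.all_eq_true, List.mem_range,
      Bool.not_eq_true'] at h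
    obtain ⟨⟨⟨hlen, h16⟩, ⟨hk0, hk17⟩, hk11⟩, hgen⟩ := h
    have hs := fun i (hi : i < l.length) => M.runAll_sound hR i hi
    obtain ⟨v, ev⟩ : ∃ v, v = M.app wRev := ⟨_, rfl⟩
    rw [← ev]
    simp only [← ev, M.mem_start] at hs
    obtain ⟨C, eC⟩ : ∃ C, C = Subgroup.centralizer ({v ^ 17} : Set G) := ⟨_, rfl⟩
    have hv : v ∈ C := eC ▸ Subgroup.mem_centralizer_singleton_iff.2 (Commute.self_pow v 17).eq
    have hl : d ∈ C := by
      have h1 := hs 16 (by omega)
      rw [Mark.mem, h16, show M.lett12 10 = d by simp [Mark.lett12, Mark.lett],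
        conj_eq_of_commute (M.wl_comm_l _).symm] at h1
      rw [eC, Subgroup.mem_centralizer_singleton_iff]
      exact (commute_of_conj_eq h1.symm).symm.eq
    have hst : ∀ i < 17, M.mem (l.getD i start) ∈ C := fun i hi => by
      rw [hs i (by omega)]
      exact mul_mem (mul_mem (pow_mem hv _) hl) (inv_mem (pow_mem hv _))
    have hlett : ∀ x, M.lett x ∈ C := by
      intro x
      by_cases hx : x < 10
      · obtain ⟨hsel, heq⟩ := hgen x hx
        rw [← M.wl_singleton, ← M.wl_eq_of heq]
        generalize Hom24Data.genSel.getD x [] = sel at hsel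
        induction sel with
        | nil => exact one_mem _
        | cons i sel ih =>
          obtain ⟨⟨hi0, hi17⟩, hβ⟩ := hsel i (List.mem_cons_self ..)
          rw [List.flatMap_cons, M.wl_append]
          refine mul_mem ?_ (ih fun j hj => hsel j (List.mem_cons_of_mem _ hj))
          have hne : (l.getD (i - 1) start).2 ≠ 11 := fun e => by rw [e, Nat.beq_refl] at hβ; exact Bool.noConfusion hβ
          rw [← M.mem_word hne]
          exact hst _ (by omega)
      · rw [Mark.lett, if_neg hx]; exact hl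
    have hwl : ∀ w, M.wl w ∈ C := by
      intro w
      induction w with
      | nil => exact one_mem _
      | cons x w ih => exact mul_mem (hlett x) ih
    have hk : M.k ∈ C := by
      have h1 := hst (Hom24Data.kRound - 1) (by omega)
      rw [Mark.mem, hk11, show M.lett12 11 = M.k by simp [Mark.lett12]] at h1
      have := mul_mem (mul_mem (inv_mem (hwl (l.getD (Hom24Data.kRound - 1) start).1)) h1)
        (hwl (l.getD (Hom24Data.kRound - 1) start).1)
      simpa [mul_assoc] using this
    have hcd : Commute d (v ^ 17) := by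
      rw [eC, Subgroup.mem_centralizer_singleton_iff] at hl
      exact hl
    have hck : Commute M.k (v ^ 17) := by
      rw [eC, Subgroup.mem_centralizer_singleton_iff] at hk
      exact hk
    obtain ⟨u, hu⟩ := M.cfg.cent _ hcd
    have hcen : u ∈ Subgroup.center Cfsg.Spor.Fi23 := by
      have hall : ∀ g, g ∈ Subgroup.centralizer ({u} : Set Cfsg.Spor.Fi23) := by
        intro g
        have : (⊤ : Subgroup Cfsg.Spor.Fi23) ≤ Subgroup.centralizer {u} := by
          rw [← SporFi23.closure_gen, Subgroup.closure_le]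
          rintro _ ⟨x, hx, rfl⟩
          have hx' : x < 10 := hx
          have h1 := hlett x
          rw [eC, Subgroup.mem_centralizer_singleton_iff, Mark.lett, if_pos hx'] at h1
          have h2 : Commute (M.ι (SporFi23.gen x) * d) (v ^ 17) := h1
          have h3 := h2.mul_left hcd
          rw [mul_assoc, M.dd, mul_one] at h3
          rw [SetLike.mem_coe, Subgroup.mem_centralizer_singleton_iff]
          refine M.cfg.inj ?_
          rw [map_mul, map_mul]
          rcases hu with e | e <;> rw [e] at h3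
          · exact h3.eq
          · have h4 := h3.mul_right (M.cfg.comm (SporFi23.gen x)).symm
            rwa [mul_assoc, M.dd, mul_one] at h4
        exact this (Subgroup.mem_top g)
      exact Subgroup.mem_center_iff.2 fun g => Subgroup.mem_centralizer_singleton_iff.1 (hall g)
    rw [StructB.Fi23Tri.center_eq_bot, Subgroup.mem_bot] at hcen
    rw [hcen, map_one, one_mul] at hu
    rcases hu with e | e
    · exact e
    · exact absurd (e ▸ hck) M.cfg.kl

/-- The letter of a generator. -/
def letter24 : Cfsg.Spor.Fi24.Gen → ℕ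
  | .l => 10 | .k => 11 | .a => 0 | .b => 1 | .c => 2 | .d => 3 | .e => 4 | .f => 5 | .g => 6
  | .j => 7 | .h => 8 | .i => 9

theorem Mark.lett_pair {x y : ℕ} (hx : x < 10) (hy : y < 10) :
    (M.lett x * M.lett y) = M.ι (SporFi23.gen x * SporFi23.gen y) := by
  rw [Mark.lett, Mark.lett, if_pos hx, if_pos hy, mul_assoc, ← mul_assoc d,
    (M.cfg.comm _).eq, mul_assoc, M.dd, mul_one, map_mul]

/-- The members for the generators satisfy the relators. -/
theorem Mark.rels24 : ∀ r ∈ Cfsg.Spor.coxRelators Cfsg.Spor.Fi24.edges ∪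
    {r | r ∈ Cfsg.Spor.Fi24.extra}, FreeGroup.lift (fun y => M.lett12 (letter24 y)) r = 1 := by
  have hsq : ∀ x, M.lett12 x * M.lett12 x = 1 := fun x => by
    unfold Mark.lett12
    split
    exacts [M.kk, M.lett_mul_self x]
  have two : ∀ u v : G, u * u = 1 → v * v = 1 → Commute u v → (u * v) ^ 2 = 1 := fun u v hu hv h => by
    rw [h.mul_pow, pow_two, pow_two, hu, hv, one_mul]
  have three : ∀ u v : G, u * u = 1 → v * v = 1 → u * v * u = v * u * v → (u * v) ^ 3 = 1 :=
    fun u v hu hv h => by
    calc (u * v) ^ 3 = (u * v * u) * (v * u * v) := by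
          rw [pow_succ, pow_two]; simp only [mul_assoc]
      _ = (v * u * v) * (v * u * v) := by rw [h]
      _ = v * u * (v * v) * u * v := by simp only [mul_assoc]
      _ = 1 := by rw [hv, mul_one, mul_assoc v, hu, mul_one, hv]
  rintro r (⟨x, -, y, -, rfl⟩ | hr)
  · rw [map_pow, map_mul, FreeGroup.lift_apply_of, FreeGroup.lift_apply_of]
    by_cases hxy : x = y
    · subst hxy
      rw [hsq, one_pow]
    have hinj : letter24 x ≠ letter24 y := fun e => hxy (by revert e; cases x <;> cases y <;> decide)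
    have cl : ∀ n < 10, Commute d (M.lett12 n) := fun n hn => by
      rw [Mark.lett12, if_neg (by omega)]; exact M.lett_comm_l n
    have ck : ∀ n < 10, 0 < n → Commute M.k (M.lett12 n) := fun n hn h0 => by
      rw [Mark.lett12, if_neg (by omega)]; exact M.nine_comm h0 hn
    have el : M.lett12 10 = d := by simp [Mark.lett12, Mark.lett]
    have ek : M.lett12 11 = M.k := by simp [Mark.lett12]
    by_cases h10 : letter24 x < 10 ∧ letter24 y < 10
    · obtain ⟨hx, hy⟩ := h10
      rw [Mark.lett12, Mark.lett12, if_neg (by omega), if_neg (by omega), M.lett_pair hx hy,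
        ← map_pow]
      obtain ⟨x', ex⟩ : ∃ x', x' = SporFi23.ofN (letter24 x) := ⟨_, rfl⟩
      obtain ⟨y', ey⟩ : ∃ y', y' = SporFi23.ofN (letter24 y) := ⟨_, rfl⟩
      have hg : ∀ n < 10, (SporFi23.gen n : Cfsg.Spor.Fi23) = PresentedGroup.of (SporFi23.ofN n) :=
        fun n hn => by show SporFi23.pres.gen n = _; rw [IsPres.gen, if_pos hn]
      rw [hg _ hx, hg _ hy, ← ex, ← ey]
      have hlab : Cfsg.Spor.coxLabel Cfsg.Spor.Fi24.edges x y =
          Cfsg.Spor.coxLabel Cfsg.Spor.Fi23.edges x' y' := by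
        subst ex ey
        revert hx hy
        cases x <;> cases y <;> decide
      have hn : x' ∈ Cfsg.Spor.coxNodes Cfsg.Spor.Fi23.edges ∧
          y' ∈ Cfsg.Spor.coxNodes Cfsg.Spor.Fi23.edges := by
        constructor
        · cases x' <;> decide
        · cases y' <;> decide
      have h1 := PresentedGroup.one_of_mem
        (rels := Cfsg.Spor.coxRelators Cfsg.Spor.Fi23.edges ∪ {r | r ∈ Cfsg.Spor.Fi23.extra})
        (x := (FreeGroup.of x' * FreeGroup.of y') ^
          Cfsg.Spor.coxLabel Cfsg.Spor.Fi23.edges x' y')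
        (Or.inl ⟨x', hn.1, y', hn.2, rfl⟩)
      rw [map_pow, map_mul] at h1
      rw [hlab]
      exact (congrArg M.ι h1).trans (map_one M.ι)
    · have hcases : (letter24 x = 10 ∧ letter24 y < 10) ∨ (letter24 y = 10 ∧ letter24 x < 10) ∨
          (letter24 x = 11 ∧ 0 < letter24 y ∧ letter24 y < 10) ∨
          (letter24 y = 11 ∧ 0 < letter24 x ∧ letter24 x < 10) ∨
          (letter24 x = 11 ∧ letter24 y = 0) ∨ (letter24 y = 11 ∧ letter24 x = 0) ∨
          (letter24 x = 11 ∧ letter24 y = 10) ∨ (letter24 y = 11 ∧ letter24 x = 10) := by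
        revert hinj h10
        cases x <;> cases y <;> decide
      have lab2 : ∀ {x y : Cfsg.Spor.Fi24.Gen}, letter24 x = 10 → letter24 y < 10 →
          Cfsg.Spor.coxLabel Cfsg.Spor.Fi24.edges x y = 2 ∧
          Cfsg.Spor.coxLabel Cfsg.Spor.Fi24.edges y x = 2 := by
        intro x y; cases x <;> cases y <;> decide
      have lab2k : ∀ {x y : Cfsg.Spor.Fi24.Gen}, letter24 x = 11 → 0 < letter24 y → letter24 y < 10 →
          Cfsg.Spor.coxLabel Cfsg.Spor.Fi24.edges x y = 2 ∧
          Cfsg.Spor.coxLabel Cfsg.Spor.Fi24.edges y x = 2 := by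
        intro x y; cases x <;> cases y <;> decide
      have lab3a : ∀ {x y : Cfsg.Spor.Fi24.Gen}, letter24 x = 11 → (letter24 y = 0 ∨ letter24 y = 10) →
          Cfsg.Spor.coxLabel Cfsg.Spor.Fi24.edges x y = 3 ∧
          Cfsg.Spor.coxLabel Cfsg.Spor.Fi24.edges y x = 3 := by
        intro x y; cases x <;> cases y <;> decide
      have ea : M.lett12 0 = M.lett 0 := by simp [Mark.lett12]
      have hk0 := M.kk
      have ha0 := M.lett_mul_self 0
      rcases hcases with ⟨e, h⟩ | ⟨e, h⟩ | ⟨e, h0, h⟩ | ⟨e, h0, h⟩ | ⟨e, h⟩ | ⟨e, h⟩ | ⟨e, h⟩ |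
        ⟨e, h⟩
      · rw [(lab2 e h).1, e, el]; exact two _ _ M.dd (hsq _) (cl _ h)
      · rw [(lab2 e h).2, e, el]; exact two _ _ (hsq _) M.dd (cl _ h).symm
      · rw [(lab2k e h0 h).1, e, ek]; exact two _ _ hk0 (hsq _) (ck _ h h0)
      · rw [(lab2k e h0 h).2, e, ek]; exact two _ _ (hsq _) hk0 (ck _ h h0).symm
      · rw [(lab3a e (Or.inl h)).1, e, h, ek, ea]; exact three _ _ hk0 ha0 M.braid_ka
      · rw [(lab3a e (Or.inl h)).2, e, h, ek, ea]; exact three _ _ ha0 hk0 M.braid_ka.symm
      · rw [(lab3a e (Or.inr h)).1, e, h, ek, el]; exact three _ _ hk0 M.dd M.braid_kl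
      · rw [(lab3a e (Or.inr h)).2, e, h, ek, el]; exact three _ _ M.dd hk0 M.braid_kl.symm
  · simp only [Cfsg.Spor.Fi24.extra, Set.mem_setOf_eq, List.mem_cons, List.not_mem_nil, or_false]
      at hr
    rcases hr with rfl | rfl
    · have h9 : M.wl (Spider.rpt 9 [0, 1, 2, 3, 4, 5, 8]) = d := by
        have hE7 : wprod SporFi23.gen (Spider.rpt 9 [0, 1, 2, 3, 4, 5, 8]) = 1 := by
          have h1 := PresentedGroup.one_of_mem
            (rels := Cfsg.Spor.coxRelators Cfsg.Spor.Fi23.edges ∪ {r | r ∈ Cfsg.Spor.Fi23.extra})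
            (x := (Cfsg.Spor.Fi23.a * Cfsg.Spor.Fi23.b * Cfsg.Spor.Fi23.c * Cfsg.Spor.Fi23.d *
              Cfsg.Spor.Fi23.e * Cfsg.Spor.Fi23.f * Cfsg.Spor.Fi23.h) ^ 9)
            (Or.inr (by simp [Cfsg.Spor.Fi23.extra]))
          rw [Spider.wprod_rpt, ← h1]
          simp [wprod, mul_assoc]
          rfl
        rw [M.wl_eq, show flt (Spider.rpt 9 [0, 1, 2, 3, 4, 5, 8]) =
          Spider.rpt 9 [0, 1, 2, 3, 4, 5, 8] by decide +kernel, hE7, map_one, one_mul,
          show (Spider.rpt 9 [0, 1, 2, 3, 4, 5, 8]).length = 2 * 31 + 1 by decide +kernel, pow_succ,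
          pow_mul, pow_two, M.dd, one_pow, one_mul]
      rw [Mark.wl, Spider.wprod_rpt] at h9
      simp only [map_mul, map_inv, map_pow, FreeGroup.lift_apply_of, letter24]
      rw [show M.lett12 10 = d by simp [Mark.lett12, Mark.lett]]
      simp [wprod, mul_assoc] at h9
      simp [Mark.lett12, mul_assoc, h9]
    · have h := M.relator
      simp only [map_mul, map_pow, FreeGroup.lift_apply_of, letter24]
      rw [← h]
      simp [Mark.app, wRev, wprod, mul_assoc]

end

end CfsgLib.Trans3.Fi24Loc
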