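import Cfsg.Agent.Lib.Trans3.Fi24Loc.Close

/-!
The local axioms and an involution `z` give a class of 3-transpositions of type M(24).
-/

set_option autoImplicit false
set_option linter.unusedSectionVars false

namespace CfsgLib.Trans3.Fi24Loc

open CfsgLib.InvChar CfsgLib.Trans3 CfsgLib.Trans3.Fi

theorem m24_congr {A B : Type*} [Group A] [Group B] {D : Set A} (e : A ≃* B) {D' : Set B}
    (hE : e '' D = D') (h : Cfsg.IsOfTypeM24 A D) : Cfsg.IsOfTypeM24 B D' := by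
  obtain ⟨hZ, d, hd, c, hc, hdc, h23, N, hN, ⟨i⟩, ⟨j⟩⟩ := h
  subst hE
  obtain ⟨ψ, hψ⟩ := sub_congr e (nbrs_map (D := D) e d).symm
  obtain ⟨φ, -⟩ := sub_congr e (S := nbrs D d ∩ nbrs D c)
    (S' := nbrs (e '' D) (e d) ∩ nbrs (e '' D) (e c))
    (by rw [nbrs_map, nbrs_map, Set.image_inter e.injective])
  haveI := hN
  haveI hN' : (N.map φ.toMonoidHom).Normal := Subgroup.Normal.map hN _ φ.surjective
  exact ⟨center_congr e hZ, e d, ⟨d, hd, rfl⟩, e c, ⟨c, hc, rfl⟩,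
    fun x => hdc (x.of_map (f := e.toMonoidHom) e.injective), m23_congr ψ hψ h23,
    N.map φ.toMonoidHom, hN', ⟨(φ.subgroupMap N).symm.trans i⟩,
    ⟨(QuotientGroup.congr N (N.map φ.toMonoidHom) φ rfl).symm.trans j⟩⟩

variable {X : Type*} [Group X] [Finite X] {d : X} {G₀ : Subgroup X} {z : X} {Q : Subgroup X}

/-- The class of `d` is a class of 3-transpositions of type M(24). -/
theorem type_m24 (h : Loc24 d G₀) (hu : Uniq d) (hz : ZData d G₀ z Q) :
    Cfsg.IsThreeTranspositionClass (conjugatesOf d) ∧ Cfsg.IsOfTypeM24 X (conjugatesOf d) := by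
  obtain ⟨E, hE⟩ := exists_emb h
  obtain ⟨htop, himg⟩ := range_top h hE hu hz
  let e : Cfsg.Spor.Fi24 ≃* X := MulEquiv.ofBijective E ⟨hE.inj, MonoidHom.range_eq_top.1 htop⟩
  have he : e '' conjugatesOf SporFi24.trans = conjugatesOf d := himg
  obtain ⟨⟨h1, h2⟩, -, hgen⟩ := SporFi24.isThreeTranspositionClass
  refine ⟨⟨⟨fun x hx => ordD h hx, ?_⟩, ⟨d, mem_conjugatesOf_self, rfl⟩, ?_⟩,
    m24_congr e he TypeFi24.typeM24⟩
  · intro x hx y hy
    rw [← himg] at hx hy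
    obtain ⟨u, hu', rfl⟩ := hx
    obtain ⟨v, hv, rfl⟩ := hy
    rcases h2 u hu' v hv with q | q <;> [left; right] <;> rw [← map_mul, ← map_pow, q, map_one]
  · rw [← himg, ← MonoidHom.map_closure, hgen, ← MonoidHom.range_eq_map, htop]

end CfsgLib.Trans3.Fi24Loc
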