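import Cfsg.Agent.Lib.Trans3.Fi24Loc.Config
import Cfsg.Agent.Lib.StructB.Fi23Tri.Main

/-!
The members over the three small colours of the triality subgroup all commute with `k`: the part of
`G₀` centralising the simple triality group is abelian and inverted by `d`, and an element inverted by
two adjacent members is trivial.
-/

set_option autoImplicit false
set_option linter.unusedSectionVars false
set_option maxRecDepth 100000

namespace CfsgLib.Trans3.Fi24Loc

open CfsgLib.InvChar.Coset CfsgLib.InvChar CfsgLib.Trans3 CfsgLib.Trans3.Fi CfsgLib.Trans3.FiConf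
open CfsgLib.StructB.Fi23Tri (Pt tau colOf genPt mkPt q2 d2 L0 Ltri chi nine)

variable {X : Type*} [Group X] [Finite X] {d : X} {G₀ : Subgroup X} {k j : X} {s : ℕ → X}
  {ι : Cfsg.Spor.Fi23 →* X}

theorem tau_trSet (p : Pt) : tau p ∈ trSet := StructB.Fi23Tri.tau_mem p

variable (h : Loc24 d G₀) (hc : Conf d G₀ k j s ι)
include h hc

/-- The member of a point. -/
theorem member_nbr (p : Pt) : ι (tau p) * d ∈ nbrs (conjugatesOf d) d :=
  (hc.near _).2 ⟨_, tau_trSet p, rfl⟩

/-- The nine letters as members commute with `k`. -/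
theorem gen_comm {x : ℕ} (hx : x ∈ nine) : Commute k (ι (SporFi23.gen x) * d) := by
  obtain ⟨h1, h9⟩ := StructB.Fi23Tri.mem_nine.1 hx
  obtain ⟨y, ey, hy⟩ : ∃ y : Cfsg.Spor.Fi23.Gen, SporFi23.gen x = PresentedGroup.of y ∧ ix23 y ≠ 3 :=
    ⟨SporFi23.ofN x, by
      show SporFi23.pres.gen x = _
      rw [IsPres.gen, if_pos (by omega)], by
      interval_cases x <;> decide⟩
  have dd := sqD h (mem_conjugatesOf_self (a := d))
  rw [ey, hc.gen, mul_assoc, dd, mul_one]
  rcases ix23_cases y with e | e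
  · rw [e, tenSeq_last]; exact hc.kj
  · rw [tenSeq_node _ _ e]; exact hc.k8 _ e hy

/-- An element of the group of the nine, times the power of `d` of its colour action, commutes with `k`. -/
theorem L0_comm {g : Cfsg.Spor.Fi23} (hg : g ∈ L0) :
    ∃ n : ℕ, chi ⟨g, StructB.Fi23Tri.L0_le hg⟩ = Equiv.swap 1 2 ^ n ∧ Commute k (ι g * d ^ n) := by
  induction hg using Subgroup.closure_induction with
  | mem g hg =>
    obtain ⟨x, hx, rfl⟩ := hg
    refine ⟨1, ?_, ?_⟩
    · rw [pow_one]; exact StructB.Fi23Tri.chi_eq _ (StructB.Fi23Tri.acts_gen hx)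
    · rw [pow_one]; exact gen_comm h hc hx
  | one =>
    refine ⟨0, ?_, by simp⟩
    rw [pow_zero]; exact map_one chi
  | mul a b ha hb iha ihb =>
    obtain ⟨n, hn, cn⟩ := iha
    obtain ⟨m, hm, cm⟩ := ihb
    refine ⟨n + m, ?_, ?_⟩
    · rw [pow_add, ← hn, ← hm, ← map_mul]
      rfl
    · have e : ι (a * b) * d ^ (n + m) = ι a * d ^ n * (ι b * d ^ m) := by
        rw [map_mul, pow_add]
        calc ι a * ι b * (d ^ n * d ^ m) = ι a * (ι b * d ^ n) * d ^ m := by group
          _ = ι a * (d ^ n * ι b) * d ^ m := by rw [((hc.comm b).pow_left n).eq]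
          _ = ι a * d ^ n * (ι b * d ^ m) := by group
      rw [e]; exact cn.mul_right cm
  | inv a ha iha =>
    obtain ⟨n, hn, cn⟩ := iha
    refine ⟨n, ?_, ?_⟩
    · have hsw : (Equiv.swap (1 : Fin 3) 2 ^ n)⁻¹ = Equiv.swap 1 2 ^ n := by
        rw [← inv_pow, Equiv.swap_inv]
      rw [← hsw, ← hn, ← map_inv]
      rfl
    · have e : ι a⁻¹ * d ^ n = (ι a * d ^ n)⁻¹ := by
        rw [mul_inv_rev, map_inv, ← inv_pow, invD h (mem_conjugatesOf_self (a := d)),
          ((hc.comm a).inv_right.pow_left n).eq]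
      rw [e]; exact cn.inv_right

/-- The kernel of the colour action commutes with `k`. -/
theorem ker_comm {g : ↥Ltri} (hg : chi g = 1) : Commute k (ι (g : Cfsg.Spor.Fi23)) := by
  obtain ⟨n, hn, hcm⟩ := L0_comm h hc (StructB.Fi23Tri.mem_L0_of_fix (g := g) (by rw [hg]; rfl))
  have e : Equiv.swap (1 : Fin 3) 2 ^ n = 1 := by rw [← hn]; exact hg
  rcases Nat.even_or_odd' n with ⟨m, rfl | rfl⟩
  · rwa [pow_mul, pow_two, sqD h (mem_conjugatesOf_self (a := d)), one_pow, mul_one] at hcm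
  · rw [pow_succ, pow_mul, pow_two, Equiv.swap_mul_self, one_pow, one_mul] at e
    exact absurd e (by decide)

/-- The member of the extra letter of the triality group commutes with `k`. -/
theorem d2_comm : Commute k (ι d2 * d) := by
  obtain ⟨R, eR⟩ : ∃ R : Subgroup X,
      R = Subgroup.centralizer ((fun g : ↥Ltri => ι (g : Cfsg.Spor.Fi23)) '' {g | chi g = 1}) :=
    ⟨_, rfl⟩
  have memR : ∀ {x : X}, x ∈ R ↔ ∀ g : ↥Ltri, chi g = 1 → Commute (ι (g : Cfsg.Spor.Fi23)) x := by
    intro x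
    rw [eR, Subgroup.mem_centralizer_iff]
    exact ⟨fun hx g hg => hx _ ⟨g, hg, rfl⟩, fun hx _ ⟨g, hg, e⟩ => e ▸ hx g hg⟩
  have hd : d ∈ conjugatesOf d := mem_conjugatesOf_self
  have dd : d * d = 1 := sqD h hd
  have di : d⁻¹ = d := invD h hd
  have dR : d ∈ R := memR.2 fun g _ => (hc.comm _).symm
  have kR : k ∈ R := memR.2 fun g hg => (ker_comm h hc hg).symm
  obtain ⟨A, eA⟩ : ∃ A : Subgroup X, A = R ⊓ G₀ := ⟨_, rfl⟩
  have hfix : ∀ x ∈ A, Commute d x → x = 1 := by
    intro x hx hdx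
    rw [eA] at hx
    obtain ⟨v, hv⟩ := hc.cent x hdx
    have hev : x = ι v := hv.resolve_right fun e => notMem h hd (by
      have : ι v * d ∈ G₀ := e ▸ hx.2
      exact ((parity h (ι v) d).1 this).1 (hc.inG v))
    have hv1 : v = 1 := StructB.Fi23Tri.eq_one_of_commute_ker fun g hg => by
      have := memR.1 hx.1 g hg
      rw [hev] at this
      exact hc.inj (by rw [map_mul, map_mul]; exact this.symm.eq)
    rw [hev, hv1, map_one]
  -- conjugation by `d` on `A`
  have hnorm : ∀ x ∈ A, d * x * d ∈ A := by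
    intro x hx
    rw [eA] at hx ⊢
    refine ⟨mul_mem (mul_mem dR hx.1) dR, ?_⟩
    have := (conj_mem_iff h d x).2 hx.2
    rwa [di] at this
  let φ : ↥A →* ↥A := MonoidHom.mk' (fun x => ⟨d * x * d, hnorm x x.2⟩) fun x y => Subtype.ext (by
    show d * ((x : X) * y) * d = d * x * d * (d * y * d)
    rw [show d * (x : X) * d * (d * y * d) = d * x * (d * d) * y * d by group, dd, mul_one]; group)
  have hφ : MonoidHom.FixedPointFree φ := fun x hx => Subtype.ext (hfix x x.2 (by
    have e : d * (x : X) * d = x := congrArg Subtype.val hx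
    show d * (x : X) = x * d
    conv_rhs => rw [← e]
    rw [mul_assoc, dd, mul_one]))
  have h2 : Function.Involutive φ := fun x => Subtype.ext (by
    show d * (d * (x : X) * d) * d = x
    rw [show d * (d * (x : X) * d) * d = d * d * x * (d * d) by group, dd, one_mul, mul_one])
  have inv_d : ∀ x ∈ A, d * x * d = x⁻¹ := fun x hx =>
    congrArg Subtype.val (congrFun (hφ.coe_eq_inv_of_involutive h2) ⟨x, hx⟩)
  have comA : ∀ x ∈ A, ∀ y ∈ A, Commute x y := fun x hx y hy =>
    (hφ.commute_all_of_involutive h2 ⟨x, hx⟩ ⟨y, hy⟩).map A.subtype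
  -- the extra member
  obtain ⟨T, eT⟩ : ∃ T, T = ι d2 * d := ⟨_, rfl⟩
  have hd2 : d2 = tau (mkPt q2) := StructB.Fi23Tri.d2_eq_tau
  have nT : T ∈ nbrs (conjugatesOf d) d := eT ▸ hd2 ▸ member_nbr h hc (mkPt q2)
  have sT : T * T = 1 := sqD h nT.1
  have normT : ∀ x ∈ R, T * x * T ∈ R := by
    intro x hx
    refine memR.2 fun g hg => ?_
    obtain ⟨g', eg⟩ : ∃ g' : ↥Ltri, g' =
        ⟨d2, StructB.Fi23Tri.d2_mem⟩ * g * ⟨d2, StructB.Fi23Tri.d2_mem⟩⁻¹ := ⟨_, rfl⟩
    have hg' : chi g' = 1 := by rw [eg, map_mul, map_mul, hg, mul_one, map_inv, mul_inv_cancel]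
    have e : ι (g' : Cfsg.Spor.Fi23) = T * ι (g : Cfsg.Spor.Fi23) * T := by
      have ev : (g' : Cfsg.Spor.Fi23) = d2 * g * d2 := by
        rw [eg, Subgroup.coe_mul, Subgroup.coe_mul, Subgroup.coe_inv]
        exact congrArg _ (StructB.Fi23Tri.d2_inv)
      rw [ev, eT, map_mul, map_mul]
      calc ι d2 * ι (g : Cfsg.Spor.Fi23) * ι d2
          = ι d2 * ι (g : Cfsg.Spor.Fi23) * (d * d) * ι d2 := by rw [dd, mul_one]
        _ = ι d2 * (ι (g : Cfsg.Spor.Fi23) * d) * (d * ι d2) := by group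
        _ = ι d2 * (d * ι (g : Cfsg.Spor.Fi23)) * (ι d2 * d) := by
            rw [(hc.comm (g : Cfsg.Spor.Fi23)).eq, (hc.comm d2).eq]
        _ = ι d2 * d * ι (g : Cfsg.Spor.Fi23) * (ι d2 * d) := by group
    have := memR.1 hx g' hg'
    rw [e] at this
    have h3 := this.map (MulAut.conj T).toMonoidHom
    simp only [MulEquiv.coe_toMonoidHom, MulAut.conj_apply, inv_eq_of_mul_eq_one_right sT] at h3
    rwa [show T * (T * ι (g : Cfsg.Spor.Fi23) * T) * T =
      T * T * ι (g : Cfsg.Spor.Fi23) * (T * T) by group, sT, one_mul, mul_one] at h3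
  have hkG : k ∉ G₀ := notMem h hc.hk
  have hTG : T ∉ G₀ := notMem h nT.1
  obtain ⟨k', ek'⟩ : ∃ k', k' = T * k * T := ⟨_, rfl⟩
  have hk'G : k' ∉ G₀ := by
    rw [ek', show T * k * T = T * k * T⁻¹ by rw [inv_eq_of_mul_eq_one_right sT], conj_mem_iff h]
    exact hkG
  have hk'R : k' ∈ R := ek' ▸ normT k kR
  have hρ : d * k ∈ A := eA ▸ ⟨mul_mem dR kR, (parity h d k).2 (iff_of_false h.out hkG)⟩
  have hσ : d * k' ∈ A := eA ▸ ⟨mul_mem dR hk'R, (parity h d k').2 (iff_of_false h.out hk'G)⟩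
  obtain ⟨y, ey⟩ : ∃ y, y = (d * k)⁻¹ * (d * k') := ⟨_, rfl⟩
  have hy : y ∈ A := ey ▸ mul_mem (inv_mem hρ) hσ
  have yk : y = k * k' := by
    rw [ey, mul_inv_rev, invD h hc.hk, di, show k * d * (d * k') = k * (d * d) * k' by group, dd,
      mul_one]
  have yT : T * y * T = y⁻¹ := by
    rw [yk, mul_inv_rev, invD h hc.hk, show k'⁻¹ = k' from inv_eq_of_mul_eq_one_right (by
        rw [ek', show T * k * T * (T * k * T) = T * k * (T * T) * k * T by group, sT, mul_one,
          show T * k * k * T = T * (k * k) * T by group, sqD h hc.hk, mul_one, sT]),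
      ek', show T * (k * (T * k * T)) * T = T * k * T * k * (T * T) by group, sT, mul_one]
  have hyc : Commute y (d * T) := by
    show y * (d * T) = d * T * y
    have e2 : T * y = y⁻¹ * T := by
      calc T * y = T * y * (T * T) := by rw [sT, mul_one]
        _ = T * y * T * T := by group
        _ = y⁻¹ * T := by rw [yT]
    have e3 : d * y⁻¹ = y * d := by
      have := inv_d _ (inv_mem hy)
      rw [inv_inv] at this
      calc d * y⁻¹ = d * y⁻¹ * (d * d) := by rw [dd, mul_one]
        _ = d * y⁻¹ * d * d := by group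
        _ = y * d := by rw [this]
    rw [mul_assoc d T y, e2, ← mul_assoc d, e3, mul_assoc]
  have y1 : y = 1 := by
    rcases h.pair d T y hd nT hyc with e | e
    · exact hfix y hy (commute_of_conj_eq e).symm
    · exfalso
      have e1 : d * y * d = y⁻¹ := inv_d y hy
      have hTA : d * T = (y⁻¹) * y⁻¹ := by
        rw [← e]
        calc d * (y * d * y⁻¹) = d * y * d * y⁻¹ := by group
          _ = y⁻¹ * y⁻¹ := by rw [e1]
      have hTm : d * T ∈ A := hTA ▸ mul_mem (inv_mem hy) (inv_mem hy)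
      have := hfix _ hTm ((Commute.refl d).mul_right nT.2.2)
      exact nT.2.1 ((eq_inv_of_mul_eq_one_right this).trans di)
  rw [yk] at y1
  have hkk : k' = k := (eq_inv_of_mul_eq_one_right y1).trans (invD h hc.hk)
  rw [← eT]
  show k * T = T * k
  conv_lhs => rw [← hkk, ek', mul_assoc, sT, mul_one]

/-- A member over one of the three small colours commutes with `k`. -/
theorem colour_comm {p : Pt} (hp : colOf p < 3) : Commute k (ι (tau p) * d) := by
  have dd : d * d = 1 := sqD h (mem_conjugatesOf_self (a := d))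
  obtain ⟨g, hg, hgp⟩ := StructB.Fi23Tri.exists_root p
  obtain ⟨n, -, hgk⟩ := L0_comm h hc hg
  have tr : ∀ r : Pt, Commute k (ι (tau r) * d) → Commute k (ι (tau (SporFi23.rep g r)) * d) := by
    intro r hr
    have e : ι (tau (SporFi23.rep g r)) * d = ι g * d ^ n * (ι (tau r) * d) * (ι g * d ^ n)⁻¹ := by
      rw [← StructB.Fi23Tri.tau_conj, map_mul, map_mul, map_inv]
      have c1 : Commute (d ^ n) (ι (tau r) * d) :=
        ((hc.comm _).pow_left n).mul_right ((Commute.refl d).pow_left n)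
      calc ι g * ι (tau r) * (ι g)⁻¹ * d = ι g * (ι (tau r) * d) * (ι g)⁻¹ := by
            rw [mul_assoc (ι g * ι (tau r)), (hc.comm g).inv_right.symm.eq]; group
        _ = ι g * (d ^ n * (ι (tau r) * d) * (d ^ n)⁻¹) * (ι g)⁻¹ := by
            rw [c1.eq, mul_inv_cancel_right]
        _ = _ := by group
    rw [e]
    exact (hgk.mul_right hr).mul_right hgk.inv_right
  rcases hgp with e | e | e
  · rw [← e]
    refine tr _ ?_
    rw [← StructB.Fi23Tri.gen_eq_tau 1 (by norm_num)]
    exact gen_comm h hc StructB.Fi23Tri.one_mem_nine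
  · rw [← e]
    refine tr _ ?_
    rw [← StructB.Fi23Tri.d2_eq_tau]
    exact d2_comm h hc
  · exfalso
    obtain ⟨π, hπ⟩ := StructB.Fi23Tri.exists_acts (StructB.Fi23Tri.L0_le (inv_mem hg))
    have := hπ ⟨colOf p, hp⟩ p rfl
    rw [show SporFi23.rep g⁻¹ p = genPt 0 by
      rw [← e, ← Equiv.Perm.mul_apply, ← map_mul, inv_mul_cancel, map_one, Equiv.Perm.one_apply],
      StructB.Fi23Tri.genPt_val (by norm_num), show colOf (StructB.Fi23Tri.ptL.getD 0 0) = 3 by decide +kernel]
      at this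
    have := (π ⟨colOf p, hp⟩).isLt
    omega

end CfsgLib.Trans3.Fi24Loc
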